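import Mathlib
import Cfsg.Prelude.Def_PLocal
import Cfsg.Agent.Lib.Offender.Involves
import Cfsg.Agent.Lib.SL2.Dickson

/-!
`Qd(p)` as a group of affine maps, and recognition of a section isomorphic to it: a subgroup acting
as `SL(2, p)` on a natural section of a `p`-subgroup it normalizes.
-/

set_option autoImplicit false
set_option linter.style.haveILetI false

namespace CfsgLib.Qd

open scoped MatrixGroups

variable {p : ℕ}

/-- The affine map `x ↦ g x + v`. -/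
def aff (g : SL(2, ZMod p)) (v : Fin 2 → ZMod p) : SL(3, ZMod p) :=
  ⟨!![g.1 0 0, g.1 0 1, v 0; g.1 1 0, g.1 1 1, v 1; 0, 0, 1], by
    rw [Matrix.det_fin_three]
    have := g.2
    rw [Matrix.det_fin_two] at this
    simp
    linear_combination this⟩

theorem aff_coe (g : SL(2, ZMod p)) (v : Fin 2 → ZMod p) :
    (aff g v).1 = !![g.1 0 0, g.1 0 1, v 0; g.1 1 0, g.1 1 1, v 1; 0, 0, 1] := rfl

theorem aff_mul (g h : SL(2, ZMod p)) (v w : Fin 2 → ZMod p) :
    aff g v * aff h w = aff (g * h) (v + g.1.mulVec w) := by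
  refine Matrix.SpecialLinearGroup.ext _ _ fun i j => ?_
  fin_cases i <;> fin_cases j <;>
    simp [aff_coe, Matrix.mul_apply, Fin.sum_univ_three, Fin.sum_univ_two, Matrix.mulVec, dotProduct, Matrix.vecHead, Matrix.vecTail] <;>
    ring

theorem aff_one : aff (1 : SL(2, ZMod p)) 0 = 1 := by
  refine Matrix.SpecialLinearGroup.ext _ _ fun i j => ?_
  fin_cases i <;> fin_cases j <;> simp [aff_coe]

theorem aff_inj {g h : SL(2, ZMod p)} {v w : Fin 2 → ZMod p} (e : aff g v = aff h w) :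
    g = h ∧ v = w := by
  have hh : ∀ i j, (aff g v).1 i j = (aff h w).1 i j := fun i j => by rw [e]
  refine ⟨Matrix.SpecialLinearGroup.ext _ _ fun i j => ?_, ?_⟩
  · fin_cases i <;> fin_cases j
    · simpa [aff_coe] using hh 0 0
    · simpa [aff_coe] using hh 0 1
    · simpa [aff_coe] using hh 1 0
    · simpa [aff_coe] using hh 1 1
  · ext i : 1
    fin_cases i
    · simpa [aff_coe] using hh 0 2
    · simpa [aff_coe] using hh 1 2

/-- The affine group as a subgroup. -/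
def affGroup (p : ℕ) : Subgroup SL(3, ZMod p) where
  carrier := {M | ∃ g v, aff g v = M}
  one_mem' := ⟨1, 0, aff_one⟩
  mul_mem' := by
    rintro _ _ ⟨g, v, rfl⟩ ⟨h, w, rfl⟩
    exact ⟨_, _, (aff_mul g h v w).symm⟩
  inv_mem' := by
    rintro _ ⟨g, v, rfl⟩
    refine ⟨g⁻¹, -(g⁻¹.1.mulVec v), eq_inv_of_mul_eq_one_left ?_⟩
    rw [aff_mul, inv_mul_cancel, neg_add_cancel, aff_one]

theorem mem_of_last_row {M : SL(3, ZMod p)} (h0 : M.1 2 0 = 0) (h1 : M.1 2 1 = 0)
    (h2 : M.1 2 2 = 1) : M ∈ affGroup p := by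
  have hd := M.2
  rw [Matrix.det_fin_three, h0, h1, h2] at hd
  refine ⟨⟨!![M.1 0 0, M.1 0 1; M.1 1 0, M.1 1 1], by
    rw [Matrix.det_fin_two_of]; linear_combination hd⟩, ![M.1 0 2, M.1 1 2],
    Matrix.SpecialLinearGroup.ext _ _ fun i j => ?_⟩
  show (!![M.1 0 0, M.1 0 1, M.1 0 2; M.1 1 0, M.1 1 1, M.1 1 2; 0, 0, 1] :
    Matrix (Fin 3) (Fin 3) (ZMod p)) i j = M.1 i j
  fin_cases i <;> fin_cases j <;> simp [h0, h1, h2]

theorem qd_eq (p : ℕ) : Cfsg.qd p = affGroup p := by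
  refine le_antisymm ((Subgroup.closure_le _).mpr fun M hM => mem_of_last_row hM.1 hM.2.1 hM.2.2) ?_
  rintro _ ⟨g, v, rfl⟩
  exact Subgroup.subset_closure ⟨by simp [aff_coe], by simp [aff_coe], by simp [aff_coe]⟩

/-- Elements of `qd p`. -/
def el (g : SL(2, ZMod p)) (v : Fin 2 → ZMod p) : ↥(Cfsg.qd p) :=
  ⟨aff g v, (qd_eq p).symm ▸ ⟨g, v, rfl⟩⟩

theorem el_mul (g h : SL(2, ZMod p)) (v w : Fin 2 → ZMod p) :
    el g v * el h w = el (g * h) (v + g.1.mulVec w) := Subtype.ext (aff_mul g h v w)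

theorem el_one : el (1 : SL(2, ZMod p)) 0 = 1 := Subtype.ext aff_one

theorem el_inj {g h : SL(2, ZMod p)} {v w : Fin 2 → ZMod p} (e : el g v = el h w) :
    g = h ∧ v = w := aff_inj (congrArg Subtype.val e)

theorem el_surj (x : ↥(Cfsg.qd p)) : ∃ g v, el g v = x := by
  obtain ⟨g, v, h⟩ := (qd_eq p ▸ x.2 : (x : SL(3, ZMod p)) ∈ affGroup p)
  exact ⟨g, v, Subtype.ext h⟩

theorem el_inv (g : SL(2, ZMod p)) (v : Fin 2 → ZMod p) :
    (el g v)⁻¹ = el g⁻¹ (-(g⁻¹.1.mulVec v)) := by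
  refine inv_eq_of_mul_eq_one_left ?_
  rw [el_mul, inv_mul_cancel, neg_add_cancel, el_one]

variable [hp : Fact p.Prime]

/-- **Recognition**: `N` normalizes the `p`-subgroup `U` and acts on the section `U / ker f` as
`SL(2, p)` on its natural module. -/
theorem involves_qd_of_natural {G : Type*} [Group G] [Finite G] (hp2 : p ≠ 2) (U X : Subgroup G)
    (hU : IsPGroup p U) (hX : X ≤ Subgroup.normalizer (U : Set G)) (σ : X →* SL(2, ZMod p))
    (hσ : Function.Surjective σ) (f : U →* Multiplicative (Fin 2 → ZMod p))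
    (hf : Function.Surjective f)
    (he : ∀ (x : X) (u : U) (h : (x : G) * u * (x : G)⁻¹ ∈ U),
      (f ⟨_, h⟩).toAdd = (σ x).1.mulVec (f u).toAdd) :
    Cfsg.Involves ↥(Cfsg.qd p) G := by
  classical
  haveI : Fact (Nat.Prime 2) := ⟨Nat.prime_two⟩
  have hpge : 3 ≤ p := by have := hp.out.two_le; omega
  -- elements of `X` inside `U` act trivially
  have hσU : ∀ x : X, (x : G) ∈ U → σ x = 1 := by
    intro x hx
    refine Subtype.ext (Matrix.ext fun i j => ?_)
    obtain ⟨u, hu⟩ := hf (Multiplicative.ofAdd (Pi.single j 1))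
    have h := he x u (mul_mem (mul_mem hx u.2) (inv_mem hx))
    have h1 : (f ⟨_, mul_mem (mul_mem hx u.2) (inv_mem hx)⟩ : Multiplicative (Fin 2 → ZMod p)) = f u := by
      rw [show (⟨(x : G) * u * (x : G)⁻¹, mul_mem (mul_mem hx u.2) (inv_mem hx)⟩ : U) =
        ⟨x, hx⟩ * u * (⟨x, hx⟩ : U)⁻¹ from rfl, map_mul, map_mul, map_inv,
        mul_inv_eq_iff_eq_mul, mul_comm]
    rw [h1, hu, toAdd_ofAdd, Matrix.mulVec_single_one] at h
    rw [Matrix.SpecialLinearGroup.coe_one, Matrix.one_apply]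
    have h2 := (congrFun h i).symm
    rw [Pi.single_apply] at h2
    exact h2
  -- a Sylow two-subgroup of the preimage of the centre
  set z : SL(2, ZMod p) := -1 with hzdef
  have hz2 : z * z = 1 := by
    refine Subtype.ext ?_
    rw [Matrix.SpecialLinearGroup.coe_mul, Matrix.SpecialLinearGroup.coe_one, hzdef,
      Matrix.SpecialLinearGroup.coe_neg, Matrix.SpecialLinearGroup.coe_one]
    simp
  have hz1 : z ≠ 1 := by
    intro h
    have h0 := congrArg (fun M : SL(2, ZMod p) => M.1 0 0) h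
    rw [hzdef] at h0
    simp only [Matrix.SpecialLinearGroup.coe_neg, Matrix.SpecialLinearGroup.coe_one,
      Matrix.neg_apply, Matrix.one_apply_eq] at h0
    haveI : Fact (2 < p) := ⟨by omega⟩
    exact ZMod.neg_one_ne_one h0
  have hzc : z ∈ Subgroup.center SL(2, ZMod p) := Subgroup.mem_center_iff.mpr fun g => by
    refine Subtype.ext ?_
    simp [hzdef]
  haveI : (Subgroup.zpowers z).Normal := ⟨fun a ha g => by
    obtain ⟨i, rfl⟩ := Subgroup.mem_zpowers_iff.mp ha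
    rw [Subgroup.mem_center_iff.mp (zpow_mem hzc i) g, mul_inv_cancel_right]
    exact zpow_mem (Subgroup.mem_zpowers z) i⟩
  have hzcard : Nat.card (Subgroup.zpowers z) = 2 := by
    rw [Nat.card_zpowers]
    exact orderOf_eq_prime (by rw [pow_two, hz2]) hz1
  set Z := (Subgroup.zpowers z).comap σ with hZ
  obtain ⟨T⟩ : Nonempty (Sylow 2 Z) := inferInstance
  set T' := (T : Subgroup Z).map Z.subtype with hT'
  set N₀ := Subgroup.normalizer (T' : Set X) with hN₀
  have hfr : N₀ ⊔ Z = ⊤ := Sylow.normalizer_sup_eq_top T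
  let σZ : Z →* Subgroup.zpowers z := σ.subgroupComap (Subgroup.zpowers z)
  have hσZ : Function.Surjective σZ := σ.subgroupComap_surjective_of_surjective _ hσ
  have hTimg : (T : Subgroup Z).map σZ = ⊤ := by
    have h := (T.mapSurjective hσZ).card_eq_multiplicity
    rw [Sylow.coe_mapSurjective, hzcard, Nat.Prime.factorization_self Nat.prime_two, pow_one] at h
    exact Subgroup.eq_top_of_card_eq _ (h.trans hzcard.symm)
  obtain ⟨⟨s, hs⟩, hsT, hs1⟩ : (⟨z, Subgroup.mem_zpowers z⟩ : Subgroup.zpowers z) ∈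
      (T : Subgroup Z).map σZ := hTimg ▸ Subgroup.mem_top _
  have hsz : σ s = z := congrArg Subtype.val hs1
  have hsT' : s ∈ T' := ⟨⟨s, hs⟩, hsT, rfl⟩
  have hNsurj : ∀ g, ∃ n ∈ N₀, σ n = g := by
    intro g
    obtain ⟨x, rfl⟩ := hσ g
    have hx : x ∈ ((N₀ ⊔ Z : Subgroup X) : Set X) := hfr ▸ Subgroup.mem_top x
    haveI : Z.Normal := Subgroup.Normal.comap inferInstance σ
    rw [Subgroup.mul_normal] at hx
    obtain ⟨n, hn, y, hy, rfl⟩ := hx
    obtain ⟨w, hw, hwy⟩ : (σZ ⟨y, hy⟩) ∈ (T : Subgroup Z).map σZ := hTimg ▸ Subgroup.mem_top _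
    refine ⟨n * w, mul_mem hn (Subgroup.le_normalizer ⟨w, hw, rfl⟩), ?_⟩
    rw [map_mul, map_mul]
    exact congrArg (σ n * ·) (congrArg Subtype.val hwy)
  -- `U` and `N₀` meet only in the kernels
  have hUN : ∀ x ∈ N₀, ∀ h : ((x : X) : G) ∈ U, f ⟨x, h⟩ = 1 := by
    intro x hx hxU
    have hc : x * s * x⁻¹ * s⁻¹ ∈ T' :=
      mul_mem ((Subgroup.mem_normalizer_iff.mp hx s).mp hsT') (inv_mem hsT')
    have hcU : ((x * s * x⁻¹ * s⁻¹ : X) : G) ∈ U := by
      simp only [Subgroup.coe_mul, Subgroup.coe_inv]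
      rw [show (x : G) * s * (x : G)⁻¹ * (s : G)⁻¹ = x * (s * (x : G)⁻¹ * (s : G)⁻¹) by group]
      exact mul_mem hxU ((Subgroup.mem_normalizer_iff.mp (hX s.2) _).mp (inv_mem hxU))
    have hc1 : x * s * x⁻¹ * s⁻¹ = 1 := by
      obtain ⟨i, hi⟩ := (T.2.map Z.subtype : IsPGroup 2 T') ⟨_, hc⟩
      obtain ⟨j, hj⟩ := hU ⟨_, hcU⟩
      have hi' : (x * s * x⁻¹ * s⁻¹) ^ 2 ^ i = 1 := congrArg Subtype.val hi
      have hj' : (x * s * x⁻¹ * s⁻¹) ^ p ^ j = 1 :=
        Subtype.ext ((SubgroupClass.coe_pow _ _).trans (congrArg Subtype.val hj))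
      have hcop : Nat.Coprime (2 ^ i) (p ^ j) :=
        Nat.Coprime.pow _ _ ((Nat.coprime_primes Nat.prime_two hp.out).mpr hp2.symm)
      exact orderOf_eq_one_iff.mp (Nat.eq_one_of_dvd_coprimes hcop
        (orderOf_dvd_of_pow_eq_one hi') (orderOf_dvd_of_pow_eq_one hj'))
    have hcm : (s : G) * x * (s : G)⁻¹ = x := by
      have := congrArg Subtype.val (mul_inv_eq_one.mp hc1)
      simp only [Subgroup.coe_mul, Subgroup.coe_inv, mul_inv_eq_iff_eq_mul] at this
      rw [mul_inv_eq_iff_eq_mul]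
      exact this.symm
    have h := he s ⟨x, hxU⟩ (by rw [hcm]; exact hxU)
    have e1 : (⟨(s : G) * x * (s : G)⁻¹, by rw [hcm]; exact hxU⟩ : U) = ⟨x, hxU⟩ := Subtype.ext hcm
    rw [e1, hsz, hzdef, Matrix.SpecialLinearGroup.coe_neg, Matrix.SpecialLinearGroup.coe_one,
      Matrix.neg_mulVec, Matrix.one_mulVec] at h
    apply Multiplicative.toAdd.injective
    rw [toAdd_one]
    ext i : 1
    have h2 := congrFun h i
    rw [Pi.neg_apply] at h2
    have h3 : (2 : ZMod p) * (f ⟨x, hxU⟩).toAdd i = 0 := by linear_combination h2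
    refine (mul_eq_zero.mp h3).resolve_left ?_
    intro h4
    rw [← Nat.cast_ofNat, ZMod.natCast_eq_zero_iff] at h4
    exact absurd (Nat.le_of_dvd two_pos h4) (by omega)
  -- the product `U N₀`
  let K : Subgroup G :=
    { carrier := {g | ∃ u ∈ U, ∃ n ∈ N₀, g = u * (n : G)}
      one_mem' := ⟨1, U.one_mem, 1, N₀.one_mem, by simp⟩
      mul_mem' := by
        rintro _ _ ⟨u, hu, n, hn, rfl⟩ ⟨v, hv, m, hm, rfl⟩
        refine ⟨u * ((n : G) * v * (n : G)⁻¹),
          mul_mem hu ((Subgroup.mem_normalizer_iff.mp (hX n.2) v).mp hv), n * m, mul_mem hn hm, ?_⟩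
        rw [Subgroup.coe_mul]
        group
      inv_mem' := by
        rintro _ ⟨u, hu, n, hn, rfl⟩
        refine ⟨(n : G)⁻¹ * u⁻¹ * (n : G), ?_, n⁻¹, inv_mem hn, by rw [Subgroup.coe_inv]; group⟩
        have := (Subgroup.mem_normalizer_iff.mp (hX (inv_mem n.2)) _).mp (inv_mem hu)
        simpa using this }
  have hdec : ∀ k : K, ∃ (u : U) (n : X), n ∈ N₀ ∧ (k : G) = u * (n : G) := by
    rintro ⟨_, u, hu, n, hn, rfl⟩
    exact ⟨⟨u, hu⟩, n, hn, rfl⟩
  choose cu cn hcn hck using hdec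
  have hwd : ∀ (k : K) (u : U) (n : X), n ∈ N₀ → (k : G) = u * (n : G) →
      el (σ (cn k)) (f (cu k)).toAdd = el (σ n) (f u).toAdd := by
    intro k u n hn hk
    have h1 : ((cu k : G))⁻¹ * u = ((cn k * n⁻¹ : X) : G) := by
      rw [Subgroup.coe_mul, Subgroup.coe_inv, inv_mul_eq_iff_eq_mul, ← mul_assoc, ← hck k, hk]
      group
    have h2 : ((cn k * n⁻¹ : X) : G) ∈ U := h1 ▸ mul_mem (inv_mem (cu k).2) u.2
    have h3 := hσU _ h2
    rw [map_mul, map_inv, mul_inv_eq_one] at h3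
    have h4 := hUN _ (mul_mem (hcn k) (inv_mem hn)) h2
    have h5 : (⟨_, h2⟩ : U) = (cu k)⁻¹ * u := Subtype.ext h1.symm
    rw [h5, map_mul, map_inv, inv_mul_eq_one] at h4
    rw [h3, h4]
  let F : K →* ↥(Cfsg.qd p) := MonoidHom.mk' (fun k => el (σ (cn k)) (f (cu k)).toAdd) fun a b => by
    have hconj := (Subgroup.mem_normalizer_iff.mp (hX (cn a).2) _).mp (cu b).2
    refine (hwd (a * b) (cu a * ⟨_, hconj⟩) (cn a * cn b) (mul_mem (hcn a) (hcn b)) ?_).trans ?_
    · rw [Subgroup.coe_mul, hck a, hck b, Subgroup.coe_mul, Subgroup.coe_mul]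
      show _ = (cu a : G) * ((cn a : G) * (cu b : G) * (cn a : G)⁻¹) * _
      group
    · rw [el_mul, map_mul, map_mul, toAdd_mul, he]
  refine Offender.involves_of_hom F fun x => ?_
  obtain ⟨g, v, rfl⟩ := el_surj x
  obtain ⟨n, hn, rfl⟩ := hNsurj g
  obtain ⟨u, hu⟩ := hf (Multiplicative.ofAdd v)
  exact ⟨⟨(u : G) * n, u, u.2, n, hn, rfl⟩, (hwd _ u n hn rfl).trans (by rw [hu, toAdd_ofAdd])⟩

end CfsgLib.Qd
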