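import Mathlib
import Cfsg.Agent.Lib.Quadratic.Section

/-!
Two quadratic elements not generating a `p`-group: a subgroup acts on a section of the module as
`SL(2, p)` on its natural module over the prime field.
-/

set_option autoImplicit false
set_option linter.style.haveILetI false

namespace CfsgLib.Qd

open scoped MatrixGroups

universe u v

variable {p : ℕ} [hp : Fact p.Prime]

/-- The embedded prime-field module of a twisted copy of `SL(2, p)`. -/
noncomputable def primeVec (F : Type v) [Field F] [CharP F p] (k : SL(2, F)) (t : F) :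
    (Fin 2 → ZMod p) →+ (Fin 2 → F) where
  toFun x := k.1.mulVec ![t * ZMod.castHom (dvd_refl p) F (x 0), ZMod.castHom (dvd_refl p) F (x 1)]
  map_zero' := by simp
  map_add' x y := by
    rw [← Matrix.mulVec_add]
    congr 1
    ext i : 1
    fin_cases i <;> simp [mul_add]

theorem primeVec_apply (F : Type v) [Field F] [CharP F p] (k : SL(2, F)) (t : F)
    (x : Fin 2 → ZMod p) : primeVec F k t x =
      k.1.mulVec ![t * ZMod.castHom (dvd_refl p) F (x 0), ZMod.castHom (dvd_refl p) F (x 1)] := rfl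

theorem mulVec_inv_mulVec {F : Type v} [Field F] (k : SL(2, F)) (x : Fin 2 → F) :
    k⁻¹.1.mulVec (k.1.mulVec x) = x := by
  rw [Matrix.mulVec_mulVec, ← Matrix.SpecialLinearGroup.coe_mul, inv_mul_cancel,
    Matrix.SpecialLinearGroup.coe_one, Matrix.one_mulVec]

theorem primeVec_injective {F : Type v} [Field F] [CharP F p] (k : SL(2, F)) {t : F} (ht : t ≠ 0) :
    Function.Injective (primeVec (p := p) F k t) := by
  intro x y h
  have hi := (ZMod.castHom (dvd_refl p) F).injective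
  have h' := congrArg (fun w => k⁻¹.1.mulVec w) h
  simp only [primeVec_apply, mulVec_inv_mulVec] at h'
  ext i : 1
  fin_cases i
  · exact hi (mul_left_cancel₀ ht (congrFun h' 0))
  · exact hi (congrFun h' 1)

theorem primeVec_twist {F : Type v} [Field F] [CharP F p] (k : SL(2, F)) {t : F} (ht : t ≠ 0)
    (g : SL(2, ZMod p)) (x : Fin 2 → ZMod p) :
    (k * SL2.twist t ht g * k⁻¹).1.mulVec (primeVec F k t x) =
      primeVec F k t (g.1.mulVec x) := by
  simp only [primeVec_apply, Matrix.SpecialLinearGroup.coe_mul, ← Matrix.mulVec_mulVec,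
    mulVec_inv_mulVec]
  congr 1
  ext i : 1
  fin_cases i <;>
    simp [SL2.twist_coe, Matrix.mulVec, dotProduct, Fin.sum_univ_two, mul_add] <;> field_simp

/-- A natural `SL(2, p)`-section of the module. -/
theorem exists_natural {X : Type u} [Group X] [Finite X] {V : Type v} [AddCommGroup V] [Finite V]
    (hp2 : p ≠ 2) (hV : ∀ v : V, p • v = 0) (φ : X →* AddMonoid.End V) {a b : X}
    (hgen : Subgroup.closure ({a, b} : Set X) = ⊤) (ha : (φ a - 1) * (φ a - 1) = 0)
    (hb : (φ b - 1) * (φ b - 1) = 0) (hnp : ¬ ∀ x : X, ∃ k, φ x ^ p ^ k = 1) :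
    ∃ (X' : Subgroup X) (σ : X' →* SL(2, ZMod p)) (U : AddSubgroup V)
      (hU : ∀ (x : X'), ∀ u ∈ U, φ (x : X) u ∈ U) (f : U →+ (Fin 2 → ZMod p)),
      Function.Surjective σ ∧ Function.Surjective f ∧
        ∀ (x : X') (u : U), f ⟨φ (x : X) u, hU x u u.2⟩ = (σ x).1.mulVec (f u) := by
  obtain ⟨W, i1, i2, θ, hW, hirr, ⟨x, -, hxne⟩, hquad, -, U₀, hU₀, f₀, hf₀, hf₀e⟩ :=
    Quadratic.exists_irreducible_factor ⊤ _ V rfl hV φ fun h => hnp fun x => h x (Subgroup.mem_top x)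
  obtain ⟨F, i3, i4, i5, lam, hlam, -, ρ, hρa, hρb, hρ, e, he⟩ :=
    Quadratic.exists_sl2_of_irreducible hW θ hirr hgen (hquad a ha) (hquad b hb) ⟨x, hxne⟩
  obtain ⟨k, t, ht, hk⟩ := SL2.exists_conj_twist hp2 ρ.range
    (Quadratic.one_lt_card_sylow_range ρ hlam hρa hρb)
  set ψ : SL(2, ZMod p) →* SL(2, F) := (MulAut.conj k).toMonoidHom.comp (SL2.twist t ht) with hψdef
  have hψapp : ∀ g, ψ g = k * SL2.twist t ht g * k⁻¹ := fun g => rfl
  have hψi : Function.Injective ψ := (MulAut.conj k).injective.comp (SL2.twist_injective t ht)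
  let eψ := MonoidHom.ofInjective hψi
  set X' := ψ.range.comap ρ with hX'
  let σ : X' →* SL(2, ZMod p) := eψ.symm.toMonoidHom.comp (ρ.subgroupComap ψ.range)
  have hσ : ∀ x : X', ψ (σ x) = ρ (x : X) := fun x =>
    congrArg Subtype.val (eψ.apply_symm_apply ⟨ρ (x : X), x.2⟩)
  set θ' : (Fin 2 → ZMod p) →+ W := e.toAddMonoidHom.comp (primeVec F k t) with hθ'
  have hθ'i : Function.Injective θ' := e.injective.comp (primeVec_injective k ht)
  have hθ'e : ∀ (x : X') (w : Fin 2 → ZMod p), θ (x : X) (θ' w) = θ' ((σ x).1.mulVec w) := by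
    intro x w
    show θ (x : X) (e (primeVec F k t w)) = e (primeVec F k t ((σ x).1.mulVec w))
    rw [he, ← hσ, hψapp, primeVec_twist]
  let U : AddSubgroup V := (θ'.range.comap f₀).map U₀.subtype
  have hUmem : ∀ u : U, ∃ (h : (u : V) ∈ U₀) (w : Fin 2 → ZMod p), θ' w = f₀ ⟨u, h⟩ := by
    rintro ⟨_, y, ⟨w, hw⟩, rfl⟩
    exact ⟨y.2, w, hw⟩
  have hU : ∀ (x : X'), ∀ u ∈ U, φ (x : X) u ∈ U := by
    intro x u hu
    obtain ⟨y, ⟨w, hw⟩, rfl⟩ := hu
    refine ⟨⟨φ (x : X) y, hU₀ _ _ y.2⟩, ⟨(σ x).1.mulVec w, ?_⟩, rfl⟩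
    rw [← hθ'e, hw, hf₀e]
  choose hu₀ fw hfw using hUmem
  let f : U →+ (Fin 2 → ZMod p) :=
    { toFun := fw
      map_zero' := hθ'i (by rw [hfw, map_zero]; exact map_zero f₀)
      map_add' := fun u w => hθ'i (by
        rw [map_add, hfw, hfw, hfw, ← map_add]
        rfl) }
  refine ⟨X', σ, U, hU, f, ?_, fun w => ?_, fun x u => hθ'i ?_⟩
  · intro g
    obtain ⟨y, hy⟩ := hk g
    exact ⟨⟨y, g, hy.symm⟩, hψi (by rw [hσ]; exact hy)⟩
  · obtain ⟨y, hy⟩ := hf₀ (θ' w)
    refine ⟨⟨y, y, ⟨w, hy.symm⟩, rfl⟩, hθ'i ?_⟩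
    show θ' (fw _) = _
    rw [hfw]; exact hy
  · show θ' (fw _) = θ' ((σ x).1.mulVec (fw u))
    rw [hfw, ← hθ'e, hfw, ← hf₀e]

end CfsgLib.Qd
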