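import Mathlib
import Cfsg.Prelude.Def_LocalEven
import Cfsg.Agent.Lib.Qd.Basic
import Cfsg.Agent.Lib.Qd.Natural
import Cfsg.Agent.Lib.Quadratic.Stable
import Cfsg.Agent.Lib.PStable.AbelianResidual

/-!
`Qd(p)`-free groups are `p`-stable on every normal `p`-subgroup.
-/

set_option autoImplicit false
set_option linter.style.haveILetI false

namespace CfsgLib.Qd

open scoped MatrixGroups commutatorElement IsMulCommutative
open CfsgLib.Transfer

universe u

variable {p : ℕ} [hp : Fact p.Prime]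

/-- Not stable on an elementary abelian normal subgroup: `Qd(p)` is involved. -/
theorem involves_qd_of_not_isPStableOn {G : Type u} [Group G] [Finite G] (hp2 : p ≠ 2)
    (V : Subgroup G) [hVn : V.Normal] (hV : Cfsg.IsElementaryAbelian p V)
    (h : ¬ Cfsg.IsPStableOn p V) : Cfsg.Involves ↥(Cfsg.qd p) G := by
  simp only [Cfsg.IsPStableOn, not_forall] at h
  obtain ⟨a, hq, hna⟩ := h
  haveI := hV.1
  set C := Subgroup.centralizer (V : Set G) with hC
  have hle : (⊤ : Subgroup G) ≤ Subgroup.normalizer (V : Set G) :=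
    (Subgroup.normalizer_eq_top V).ge
  let φ₀ : G →* AddMonoid.End (Additive V) :=
    (Quadratic.act V ⊤ hle).comp Subgroup.topEquiv.symm.toMonoidHom
  have hker : ∀ g : G, φ₀ g = 1 ↔ g ∈ C := fun g => Quadratic.act_eq_one_iff V ⊤ hle _
  let φ : G ⧸ C →* AddMonoid.End (Additive V) := QuotientGroup.lift C φ₀ fun g hg => (hker g).mpr hg
  have hinj : Function.Injective φ := (injective_iff_map_eq_one _).mpr fun x hx => by
    obtain ⟨g, rfl⟩ := QuotientGroup.mk'_surjective C x
    exact (QuotientGroup.eq_one_iff g).mpr ((hker g).mp hx)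
  obtain ⟨H, x, y, hgen, hx, hy, hnp⟩ := Quadratic.exists_pair (Quadratic.act_nsmul hV) φ hinj
    (a := (QuotientGroup.mk a : G ⧸ C))
    (Quadratic.act_quadratic V ⊤ hle (a := ⟨a, Subgroup.mem_top a⟩) hq) hna
  obtain ⟨X', σ, U, hU, f, hσ, hf, he⟩ := exists_natural hp2 (Quadratic.act_nsmul hV)
    (φ.comp H.subtype) hgen hx hy fun h => hnp fun z => by
      obtain ⟨k, hk⟩ := h z
      exact ⟨k, (hinj.comp H.subtype_injective) (by
        show (φ.comp H.subtype) (z ^ p ^ k) = (φ.comp H.subtype) 1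
        rw [map_pow, hk, map_one])⟩
  set Xb := X'.map H.subtype with hXb
  set UG : Subgroup G := (AddSubgroup.toSubgroup' U).map V.subtype with hUG
  have hUGmem : ∀ z : UG, ∃ h : (z : G) ∈ V, Additive.ofMul (⟨z, h⟩ : V) ∈ U := by
    rintro ⟨_, w, hw, rfl⟩
    exact ⟨w.2, hw⟩
  choose hzV hzU using hUGmem
  have hVp : IsPGroup p V := fun v => ⟨1, Subtype.ext (by
    rw [pow_one, Subgroup.coe_pow, hV.2 _ v.2, Subgroup.coe_one])⟩
  let π := QuotientGroup.mk' C
  set XG := Xb.comap π with hXG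
  have hXnorm : XG ≤ Subgroup.normalizer (UG : Set G) := by
    have key : ∀ g ∈ XG, ∀ w ∈ UG, g * w * g⁻¹ ∈ UG := by
      rintro g ⟨z, hz, hzg⟩ _ ⟨w, hw, rfl⟩
      refine ⟨(φ₀ g (Additive.ofMul w)).toMul, ?_, rfl⟩
      have h1 := hU ⟨z, hz⟩ _ hw
      have h2 : φ ((z : H) : G ⧸ C) = φ₀ g := by
        rw [show ((z : H) : G ⧸ C) = π g from hzg]; rfl
      show Additive.ofMul (φ₀ g (Additive.ofMul w)).toMul ∈ U
      rw [ofMul_toMul, ← h2]
      exact h1
    intro g hg
    refine Subgroup.mem_normalizer_iff.mpr fun w => ⟨key g hg w, fun hw => ?_⟩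
    have h3 := key g⁻¹ (inv_mem hg) _ hw
    simpa [mul_assoc] using h3
  let e := X'.equivMapOfInjective H.subtype H.subtype_injective
  let σG : XG →* SL(2, ZMod p) := σ.comp (e.symm.toMonoidHom.comp (π.subgroupComap Xb))
  let fG : UG →* Multiplicative (Fin 2 → ZMod p) :=
    MonoidHom.mk' (fun z => Multiplicative.ofAdd (f ⟨_, hzU z⟩)) fun z w => by
      rw [← ofAdd_add, ← map_add]
      rfl
  refine involves_qd_of_natural hp2 UG XG (hVp.to_le (Subgroup.map_subtype_le _)) hXnorm σG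
    (hσ.comp (e.symm.surjective.comp
      (π.subgroupComap_surjective_of_surjective Xb (QuotientGroup.mk'_surjective C)))) fG
    (fun w => ?_) fun g u hgu => ?_
  · obtain ⟨z, hz⟩ := hf w.toAdd
    refine ⟨⟨((z : Additive V).toMul : V), (z : Additive V).toMul, z.2, rfl⟩, ?_⟩
    show Multiplicative.ofAdd (f ⟨_, _⟩) = w
    rw [← ofAdd_toAdd w, ← hz]
    rfl
  · set z := e.symm (π.subgroupComap Xb g) with hzdef
    have hz : ((z : H) : G ⧸ C) = π (g : G) :=
      congrArg Subtype.val (e.apply_symm_apply (π.subgroupComap Xb g))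
    show (Multiplicative.ofAdd (f ⟨_, _⟩)).toAdd = (σ z).1.mulVec (Multiplicative.ofAdd (f ⟨_, _⟩)).toAdd
    rw [toAdd_ofAdd, toAdd_ofAdd, ← he]
    congr 1
    refine Subtype.ext ?_
    show _ = φ ((z : H) : G ⧸ C) (Additive.ofMul (⟨(u : G), hzV u⟩ : V))
    rw [hz]
    rfl

theorem not_involves_quotient {H : Type*} [Group H] {G : Type u} [Group G] (N : Subgroup G)
    [N.Normal] (h : ¬ Cfsg.Involves H G) : ¬ Cfsg.Involves H (G ⧸ N) :=
  fun h' => h (Offender.involves_of_surjective _ (QuotientGroup.mk'_surjective N) h')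

theorem not_involves_subgroup {H : Type*} [Group H] {G : Type u} [Group G] (K : Subgroup G)
    (h : ¬ Cfsg.Involves H G) : ¬ Cfsg.Involves H K :=
  fun h' => h (Offender.involves_of_injective K.subtype K.subtype_injective h')

/-- `Qd(p)`-free groups are stable on all normal `p`-subgroups. -/
theorem isPStableOn_of_qdFree {G : Type u} [Group G] [Finite G] (hp2 : p ≠ 2)
    (h : ¬ Cfsg.Involves ↥(Cfsg.qd p) G) (W : Subgroup G) [hWn : W.Normal] (hW : IsPGroup p W) :
    Cfsg.IsPStableOn p W := by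
  intro a hq
  haveI hΦ : ((frattini ↥W).map W.subtype).Normal := PSolvable.normal_map_of_characteristic _ _
  set N := (frattini ↥W).map W.subtype with hN
  set π := QuotientGroup.mk' N
  haveI : (W.map π).Normal := Subgroup.Normal.map hWn π (QuotientGroup.mk'_surjective N)
  have hq' : ⁅⁅W.map π, Subgroup.zpowers (π a)⁆, Subgroup.zpowers (π a)⁆ = ⊥ := by
    rw [← MonoidHom.map_zpowers π a, ← Subgroup.map_commutator, ← Subgroup.map_commutator, hq,
      Subgroup.map_bot]
  have ha : (QuotientGroup.mk (π a) : (G ⧸ N) ⧸ Subgroup.centralizer ((W.map π : Subgroup (G ⧸ N)) : Set (G ⧸ N))) ∈ Cfsg.pCore p _ :=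
    (not_not.mp fun hns => not_involves_quotient N h (involves_qd_of_not_isPStableOn hp2 (W.map π)
      (Quadratic.isElementaryAbelian_map_frattini W hW) hns)) (π a) hq'
  haveI := ZJ.opMod_normal p (W.map π)
  set D := (ZJ.opMod p (W.map π)).comap π with hD
  haveI : D.Normal := Subgroup.Normal.comap inferInstance π
  refine ZJ.mem_opMod.mp (ZJ.le_opMod W D (fun d hd => ?_) (show a ∈ D from ha))
  obtain ⟨k, hk⟩ := ZJ.exists_pow_mem_centralizer (W.map π) (show π d ∈ ZJ.opMod p (W.map π) from hd)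
  obtain ⟨i, m, -, -, hco, -⟩ := exists_pow_coprime_part (p := p) (d ^ p ^ k)
  refine ⟨k + i, ?_⟩
  rw [pow_add, pow_mul]
  set x := (d ^ p ^ k) ^ p ^ i
  have hx : π x ∈ Subgroup.centralizer ((W.map π : Subgroup (G ⧸ N)) : Set (G ⧸ N)) := by
    rw [map_pow, map_pow]
    exact pow_mem hk _
  have hcop : (Nat.card (Subgroup.zpowers x)).Coprime (Nat.card (frattini ↥W)) := by
    obtain ⟨j, hj⟩ := (hW.to_subgroup (frattini ↥W)).exists_card_eq
    rw [Nat.card_zpowers, hj]
    exact hco.pow_right j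
  refine Coprime.le_centralizer_of_frattini Subgroup.le_normalizer_of_normal hcop
    (fun b hb y hy => ?_) (Subgroup.mem_zpowers x)
  have hb' : π b ∈ Subgroup.centralizer ((W.map π : Subgroup (G ⧸ N)) : Set (G ⧸ N)) := by
    obtain ⟨j, rfl⟩ := Subgroup.mem_zpowers_iff.mp hb
    rw [map_zpow]
    exact zpow_mem hx j
  rw [← QuotientGroup.eq_one_iff]
  show π (b * y * b⁻¹ * y⁻¹) = 1
  rw [map_mul, map_mul, map_mul, map_inv,
    map_inv, show π b * π y = π y * π b from (hb' (π y) ⟨y, hy, rfl⟩).symm]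
  group

theorem stableAt_of_qdFree {G : Type u} [Group G] [Finite G] (hp2 : p ≠ 2)
    (h : ¬ Cfsg.Involves ↥(Cfsg.qd p) G) (S : Subgroup G) : ZJ.StableAt p S :=
  fun W _ hW a _ hq => isPStableOn_of_qdFree hp2 h W hW a hq

/-- Normalizer form. -/
theorem isNormalizerPStable_of_qdFree {G : Type u} [Group G] [Finite G] (hp2 : p ≠ 2)
    (h : ¬ Cfsg.Involves ↥(Cfsg.qd p) G) : Cfsg.IsNormalizerPStable p G := by
  intro P hP g hg hq
  set N := Subgroup.normalizer (P : Set G) with hN
  set P' := P.subgroupOf N with hP'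
  haveI : P'.Normal := (Subgroup.normal_subgroupOf_iff_le_normalizer Subgroup.le_normalizer).mpr le_rfl
  have hq' : ⁅⁅P', Subgroup.zpowers (⟨g, hg⟩ : N)⁆, Subgroup.zpowers (⟨g, hg⟩ : N)⁆ = ⊥ := by
    apply (Subgroup.map_eq_bot_iff_of_injective _ N.subtype_injective).mp
    rw [Subgroup.map_commutator, Subgroup.map_commutator, MonoidHom.map_zpowers, hP',
      Subgroup.map_subgroupOf_eq_of_le Subgroup.le_normalizer]
    exact hq
  have h1 : (⟨g, hg⟩ : N) ∈ ZJ.opMod p P' := isPStableOn_of_qdFree hp2 (not_involves_subgroup N h) P'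
    (hP.comap_of_injective _ N.subtype_injective) _ hq'
  haveI := ZJ.opMod_normal (G := N) p P'
  set C := (Subgroup.centralizer (P : Set G)).subgroupOf N with hC
  have hCC : Subgroup.centralizer (P' : Set N) = C :=
    PReduced.subgroupOf_centralizer Subgroup.le_normalizer
  refine Fitting.le_pCore (Subgroup.Normal.map inferInstance _ (QuotientGroup.mk'_surjective C)) ?_
    (Subgroup.mem_map_of_mem (QuotientGroup.mk' C) h1)
  rintro ⟨_, d, hd, rfl⟩
  obtain ⟨j, hj⟩ := ZJ.exists_pow_mem_centralizer P' hd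
  rw [hCC] at hj
  exact ⟨j, Subtype.ext ((QuotientGroup.eq_one_iff _).mpr hj)⟩

end CfsgLib.Qd
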