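import Mathlib
import Cfsg.Prelude.Def_LocalEven
import Cfsg.Agent.Lib.Qd.Basic
import Cfsg.Agent.Lib.ZJ.Centers
import Cfsg.Agent.Lib.ZJ.NormQuot
import Cfsg.Agent.Lib.ZJ.Complement
import Cfsg.Agent.Lib.SL2.Facts

/-!
`Qd(p)` itself: translations, a Sylow `p`-subgroup, failure of `p`-stability and of control of
fusion by `Z(J)`.
-/

set_option autoImplicit false
set_option linter.style.haveILetI false

namespace CfsgLib.Qd

open scoped MatrixGroups commutatorElement

variable {p : ℕ} [hp : Fact p.Prime]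

attribute [local irreducible] el aff

/-- The projection to `SL(2, p)`. -/
noncomputable def pr : ↥(Cfsg.qd p) →* SL(2, ZMod p) :=
  MonoidHom.mk' (fun x => (el_surj x).choose) fun x y => by
    obtain ⟨v, hv⟩ := (el_surj x).choose_spec
    obtain ⟨w, hw⟩ := (el_surj y).choose_spec
    obtain ⟨u, hu⟩ := (el_surj (x * y)).choose_spec
    have h : el _ u = el _ v * el _ w := hu.trans (congrArg₂ (· * ·) hv.symm hw.symm)
    rw [el_mul] at h
    exact (el_inj h).1

theorem pr_el (g : SL(2, ZMod p)) (v : Fin 2 → ZMod p) : pr (el g v) = g := by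
  obtain ⟨w, hw⟩ := (el_surj (el g v)).choose_spec
  exact (el_inj hw).1

/-- The translations. -/
noncomputable def transl (p : ℕ) [Fact p.Prime] : Subgroup ↥(Cfsg.qd p) := (pr (p := p)).ker

theorem mem_transl {x : ↥(Cfsg.qd p)} : x ∈ transl p ↔ ∃ v, el 1 v = x := by
  obtain ⟨g, v, rfl⟩ := el_surj x
  rw [transl, MonoidHom.mem_ker, pr_el]
  exact ⟨fun h => ⟨v, h ▸ rfl⟩, fun ⟨w, hw⟩ => (el_inj hw).1.symm⟩

theorem el_one_add (v w : Fin 2 → ZMod p) : el 1 v * el 1 w = el 1 (v + w) := by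
  rw [el_mul, mul_one, Matrix.SpecialLinearGroup.coe_one, Matrix.one_mulVec]

theorem isPGroup_transl : IsPGroup p (transl p) := fun ⟨x, hx⟩ => by
  obtain ⟨v, rfl⟩ := mem_transl.mp hx
  refine ⟨1, Subtype.ext ?_⟩
  show (el 1 v) ^ p ^ 1 = 1
  have h : ∀ n : ℕ, el 1 v ^ n = el 1 (n • v) := by
    intro n
    induction n with
    | zero => simp [el_one]
    | succ n ih => rw [pow_succ, ih, el_one_add, succ_nsmul]
  rw [pow_one, h, ← el_one]
  congr 1
  ext i : 1
  simp

theorem conj_el_one (g : SL(2, ZMod p)) (v w : Fin 2 → ZMod p) :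
    el g v * el 1 w * (el g v)⁻¹ = el 1 (g.1.mulVec w) := by
  rw [mul_inv_eq_iff_eq_mul, el_mul, el_mul, mul_one, one_mul, Matrix.SpecialLinearGroup.coe_one,
    Matrix.one_mulVec, add_comm]

theorem up_mulVec (s : ZMod p) (v : Fin 2 → ZMod p) :
    (SL2.up s).1.mulVec v = ![v 0 + s * v 1, v 1] := by
  ext i : 1
  fin_cases i <;> simp [SL2.up_coe, Matrix.mulVec, dotProduct, Fin.sum_univ_two]

/-- The upper unitriangular Sylow subgroup. -/
noncomputable def upper (p : ℕ) [Fact p.Prime] : Subgroup ↥(Cfsg.qd p) :=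
  (SL2.upperHom (F := ZMod p)).range.comap pr

theorem mem_upper {x : ↥(Cfsg.qd p)} : x ∈ upper p ↔ ∃ s v, el (p := p) (SL2.up s) v = x := by
  obtain ⟨g, v, rfl⟩ := el_surj x
  rw [upper, Subgroup.mem_comap, pr_el]
  constructor
  · rintro ⟨b, rfl⟩
    exact ⟨b.toAdd, v, by rw [SL2.up, ofAdd_toAdd]⟩
  · rintro ⟨s, w, hw⟩
    exact ⟨Multiplicative.ofAdd s, (el_inj hw).1⟩

theorem card_upper : Nat.card (upper p) = p ^ 3 := by
  let e : ZMod p × (Fin 2 → ZMod p) ≃ upper p :=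
    Equiv.ofBijective (fun z => ⟨el (p := p) (SL2.up z.1) z.2, mem_upper.mpr ⟨_, _, rfl⟩⟩)
      ⟨fun z w h => by
        obtain ⟨h1, h2⟩ := el_inj (congrArg Subtype.val h)
        refine Prod.ext ?_ h2
        simpa [SL2.up_coe] using congrArg (fun M : SL(2, ZMod p) => M.1 0 1) h1,
      fun ⟨x, hx⟩ => by
        obtain ⟨s, v, rfl⟩ := mem_upper.mp hx
        exact ⟨(s, v), rfl⟩⟩
  rw [← Nat.card_congr e, Nat.card_prod, Nat.card_fun, Nat.card_fin, Nat.card_zmod]
  ring

theorem card_qd : Nat.card ↥(Cfsg.qd p) = p ^ 2 * Nat.card SL(2, ZMod p) := by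
  let e : (Fin 2 → ZMod p) × SL(2, ZMod p) ≃ ↥(Cfsg.qd p) :=
    Equiv.ofBijective (fun z => el z.2 z.1) ⟨fun z w h => Prod.ext (el_inj h).2 (el_inj h).1,
      fun x => by
        obtain ⟨g, v, rfl⟩ := el_surj x
        exact ⟨(v, g), rfl⟩⟩
  rw [← Nat.card_congr e, Nat.card_prod, Nat.card_fun, Nat.card_fin, Nat.card_zmod]

/-- `SL(2, p)` is generated by two transvections. -/
theorem eq_top_of_up_lo {K : Subgroup SL(2, ZMod p)} (hu : SL2.up (1 : ZMod p) ∈ K)
    (hl : SL2.lo (1 : ZMod p) ∈ K) : K = ⊤ := by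
  rw [eq_top_iff]
  intro x _
  refine Matrix.SL2.transvection_induction (fun x => x ∈ K) (fun i j hij k => ?_)
    (fun a b ha hb => mul_mem ha hb) x
  obtain ⟨n, rfl⟩ := ZMod.natCast_zmod_surjective k
  induction n with
  | zero => simp
  | succ n ih =>
    rw [Nat.cast_succ, Matrix.SpecialLinearGroup.transvection_add]
    refine mul_mem ih ?_
    fin_cases i <;> fin_cases j
    · exact absurd rfl hij
    · exact hu
    · exact hl
    · exact absurd rfl hij

/-- The Weyl element. -/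
def weyl : SL(2, ZMod p) := ⟨!![0, -1; 1, 0], by simp [Matrix.det_fin_two_of]⟩

theorem weyl_conj : weyl * SL2.up (-1 : ZMod p) * weyl⁻¹ = SL2.lo (1 : ZMod p) := by
  rw [mul_inv_eq_iff_eq_mul]
  refine Matrix.SpecialLinearGroup.ext _ _ fun i j => ?_
  simp only [Matrix.SpecialLinearGroup.coe_mul, SL2.up_coe, SL2.lo_coe]
  fin_cases i <;> fin_cases j <;>
    simp [weyl, Matrix.mul_apply, Fin.sum_univ_two]

/-- A normal subgroup containing the upper transvection is everything. -/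
theorem eq_top_of_normal {K : Subgroup SL(2, ZMod p)} [hK : K.Normal]
    (hu : SL2.up (1 : ZMod p) ∈ K) : K = ⊤ := by
  refine eq_top_of_up_lo hu ?_
  rw [← weyl_conj]
  refine hK.conj_mem _ ?_ _
  rw [SL2.up_neg]
  exact inv_mem hu

theorem not_isPGroup_sl2 (hp2 : p ≠ 2) : ¬ IsPGroup p SL(2, ZMod p) := by
  intro h
  obtain ⟨k, hk⟩ := h (-1 : SL(2, ZMod p))
  have hodd : Odd (p ^ k) := (hp.out.odd_of_ne_two hp2).pow
  rw [hodd.neg_one_pow] at hk
  have h0 := congrArg (fun M : SL(2, ZMod p) => M.1 0 0) hk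
  simp only [Matrix.SpecialLinearGroup.coe_neg, Matrix.SpecialLinearGroup.coe_one,
    Matrix.neg_apply, Matrix.one_apply_eq] at h0
  haveI : Fact (2 < p) := ⟨by have := hp.out.two_le; omega⟩
  exact ZMod.neg_one_ne_one h0

/-- A normal subgroup of `Qd(p)` whose `p ^ k`-th powers are translations maps to a normal
`p`-subgroup of `SL(2, p)`, so cannot contain a transvection. -/
theorem not_mem_of_normal (hp2 : p ≠ 2) {D : Subgroup ↥(Cfsg.qd p)} [D.Normal]
    (hD : ∀ d ∈ D, ∃ k : ℕ, d ^ p ^ k ∈ transl p) (v : Fin 2 → ZMod p) :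
    el (p := p) (SL2.up (1 : ZMod p)) v ∉ D := by
  intro hu
  have hs : Function.Surjective (pr (p := p)) := fun g => ⟨el g 0, pr_el g 0⟩
  haveI : (D.map pr).Normal := Subgroup.Normal.map inferInstance _ hs
  have htop := eq_top_of_normal (K := D.map pr) ⟨_, hu, pr_el _ _⟩
  refine not_isPGroup_sl2 hp2 fun g => ?_
  obtain ⟨d, hd, rfl⟩ : g ∈ D.map pr := htop ▸ Subgroup.mem_top g
  obtain ⟨k, hk⟩ := hD d hd
  exact ⟨k, by rw [← map_pow]; exact MonoidHom.mem_ker.mp hk⟩

theorem mem_transl_of_centralizer {x : ↥(Cfsg.qd p)}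
    (h : x ∈ Subgroup.centralizer (transl p : Set ↥(Cfsg.qd p))) : x ∈ transl p := by
  obtain ⟨g, v, rfl⟩ := el_surj x
  rw [transl, MonoidHom.mem_ker, pr_el]
  refine Subtype.ext (Matrix.ext fun i j => ?_)
  have h1 := h _ (mem_transl.mpr ⟨Pi.single j 1, rfl⟩)
  have h2 : el g v * el 1 (Pi.single j 1) * (el g v)⁻¹ = el 1 (Pi.single j 1) := by
    rw [← h1, mul_inv_cancel_right]
  rw [conj_el_one] at h2
  have h3 := congrFun (el_inj h2).2 i
  rw [Matrix.mulVec_single_one, Pi.single_apply] at h3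
  rw [Matrix.SpecialLinearGroup.coe_one, Matrix.one_apply]
  exact h3

/-- `Qd(p)` is not `p`-stable. -/
theorem not_isNormalizerPStable (hp2 : p ≠ 2) : ¬ Cfsg.IsNormalizerPStable p ↥(Cfsg.qd p) := by
  intro h
  set P := transl p with hP
  haveI hPn : P.Normal := by rw [hP, transl]; infer_instance
  set g := el (p := p) (SL2.up (1 : ZMod p)) 0 with hg
  have hq : ⁅⁅P, Subgroup.zpowers g⁆, Subgroup.zpowers g⁆ = ⊥ := by
    -- `[P, g]` lies in the line fixed by `g`
    let L : Subgroup ↥(Cfsg.qd p) :=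
      { carrier := {x | ∃ c : ZMod p, el (p := p) 1 ![c, 0] = x}
        one_mem' := ⟨0, by rw [← el_one]; congr 1; ext i : 1; fin_cases i <;> simp⟩
        mul_mem' := by
          rintro _ _ ⟨c, rfl⟩ ⟨d, rfl⟩
          exact ⟨c + d, by rw [el_one_add]; congr 1; ext i : 1; fin_cases i <;> simp⟩
        inv_mem' := by
          rintro _ ⟨c, rfl⟩
          refine ⟨-c, eq_inv_of_mul_eq_one_left ?_⟩
          rw [el_one_add, ← el_one]; congr 1; ext i : 1; fin_cases i <;> simp }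
    have hpow : ∀ z ∈ Subgroup.zpowers g, ∃ s w, el (p := p) (SL2.up s) w = z ∧ w 1 = 0 := by
      intro z hz
      obtain ⟨n, rfl⟩ := (mem_powers_iff_mem_zpowers.mpr hz : z ∈ Submonoid.powers g)
      induction n with
      | zero => exact ⟨0, 0, by simp [SL2.up_zero, el_one], rfl⟩
      | succ n ih =>
        obtain ⟨s, w, hw, hw1⟩ := ih (pow_mem (Subgroup.mem_zpowers g) n)
        refine ⟨s + 1, w, ?_, hw1⟩
        show _ = g ^ (n + 1)
        rw [pow_succ, ← show el (p := p) (SL2.up s) w = g ^ n from hw, hg, el_mul, SL2.up_add,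
          Matrix.mulVec_zero, add_zero]
    have h1 : ⁅P, Subgroup.zpowers g⁆ ≤ L := by
      rw [Subgroup.commutator_le]
      intro x hx z hz
      obtain ⟨v, rfl⟩ := mem_transl.mp hx
      obtain ⟨s, w, rfl, -⟩ := hpow z hz
      rw [commutatorElement_def, show el 1 v * el (p := p) (SL2.up s) w * (el 1 v)⁻¹ * (el (p := p) (SL2.up s) w)⁻¹
        = el 1 v * (el (p := p) (SL2.up s) w * (el 1 v)⁻¹ * (el (p := p) (SL2.up s) w)⁻¹) by group]
      have : (el (1 : SL(2, ZMod p)) v)⁻¹ = el 1 (-v) := inv_eq_of_mul_eq_one_left (by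
        rw [el_one_add, neg_add_cancel, el_one])
      rw [this, conj_el_one, el_one_add, up_mulVec]
      refine ⟨-(s * v 1), ?_⟩
      congr 1
      ext i : 1
      fin_cases i <;> simp
    rw [eq_bot_iff]
    refine (Subgroup.commutator_mono h1 le_rfl).trans ?_
    rw [Subgroup.commutator_le]
    rintro _ ⟨c, rfl⟩ z hz
    obtain ⟨s, w, rfl, -⟩ := hpow z hz
    rw [Subgroup.mem_bot, commutatorElement_eq_one_iff_mul_comm]
    have h2 : el (p := p) (SL2.up s) w * el (p := p) 1 ![c, 0] * (el (p := p) (SL2.up s) w)⁻¹ = el (p := p) 1 ![c, 0] := by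
      rw [conj_el_one, up_mulVec]
      congr 1
      ext i : 1
      fin_cases i <;> simp
    exact (mul_inv_eq_iff_eq_mul.mp h2).symm
  have hN : g ∈ Subgroup.normalizer (P : Set ↥(Cfsg.qd p)) :=
    (Subgroup.normalizer_eq_top P).symm ▸ Subgroup.mem_top g
  have hmem := h P isPGroup_transl g hN hq
  set C := (Subgroup.centralizer (P : Set ↥(Cfsg.qd p))).subgroupOf
    (Subgroup.normalizer (P : Set ↥(Cfsg.qd p))) with hC
  set π := QuotientGroup.mk' C
  haveI := Fitting.pCore_normal (G := _ ⧸ C) p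
  set D := ((Cfsg.pCore p (_ ⧸ C)).comap π).map (Subgroup.normalizer (P : Set ↥(Cfsg.qd p))).subtype
  haveI : D.Normal := by
    refine Subgroup.Normal.map (Subgroup.Normal.comap inferInstance π) _ fun x => ?_
    exact ⟨⟨x, (Subgroup.normalizer_eq_top P).symm ▸ Subgroup.mem_top x⟩, rfl⟩
  refine not_mem_of_normal hp2 (D := D) (fun d hd => ?_) 0 ⟨⟨g, hN⟩, hmem, rfl⟩
  obtain ⟨d', hd', rfl⟩ := hd
  obtain ⟨k, hk⟩ := Fitting.pCore_isPGroup p (⟨_, hd'⟩ : Cfsg.pCore p (_ ⧸ C))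
  refine ⟨k, mem_transl_of_centralizer ?_⟩
  have h2 : (π d') ^ p ^ k = 1 := congrArg Subtype.val hk
  rw [← map_pow] at h2
  exact (QuotientGroup.eq_one_iff (d' ^ p ^ k)).mp h2

omit hp in
theorem not_isNormalizerPStable_of_equiv [Fact p.Prime] (hp2 : p ≠ 2) {X : Type*} [Group X]
    [Finite X] (e : X ≃* ↥(Cfsg.qd p)) : ¬ Cfsg.IsNormalizerPStable p X := fun h =>
  not_isNormalizerPStable hp2 (ZJ.isNormalizerPStable_of_injective e.symm.toMonoidHom e.symm.injective h)

/-- `Z(J)` of a Sylow subgroup does not control fusion in `Qd(p)`. -/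
theorem not_controlsStrongFusion (hp2 : p ≠ 2) :
    ∃ T : Sylow p ↥(Cfsg.qd p),
      ¬ Cfsg.ControlsStrongFusion p (Cfsg.centerThompsonAOf (T : Subgroup ↥(Cfsg.qd p))) := by
  have hTp : IsPGroup p (upper p) := IsPGroup.of_card card_upper
  obtain ⟨T, hT⟩ := hTp.exists_le_sylow
  have hTeq : (T : Subgroup ↥(Cfsg.qd p)) = upper p := by
    refine (Subgroup.eq_of_le_of_card_ge hT ?_).symm
    have hf : (Nat.card SL(2, ZMod p)).factorization p = 1 := by
      rw [SL2.card_SL_two', Nat.card_zmod]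
      have h2 : ¬ p ∣ (p - 1) * (p + 1) := by
        intro h
        rcases hp.out.dvd_mul.mp h with h | h
        · have h3 := Nat.le_of_dvd (by have := hp.out.two_le; omega) h; have := hp.out.two_le; omega
        · exact hp.out.one_lt.ne' (Nat.dvd_one.mp ((Nat.dvd_add_right dvd_rfl).mp h))
      rw [Nat.factorization_mul hp.out.ne_zero (fun h => h2 (by rw [h]; exact dvd_zero p)), Finsupp.add_apply,
        Nat.Prime.factorization_self hp.out, Nat.factorization_eq_zero_of_not_dvd h2]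
    rw [T.card_eq_multiplicity, card_upper, card_qd, Nat.factorization_mul
      (pow_ne_zero _ hp.out.ne_zero) Nat.card_pos.ne', Finsupp.add_apply,
      Nat.Prime.factorization_pow hp.out, Finsupp.single_eq_same, hf]
  refine ⟨T, fun hctl => ?_⟩
  rw [ZJ.centerThompsonAOf_eq, hTeq] at hctl
  obtain ⟨T', hUT', hfus⟩ := hctl
  set U := ZJ.zJ 0 (upper p) with hU
  have hVT : transl p ≤ upper p := fun x hx => by
    obtain ⟨v, rfl⟩ := mem_transl.mp hx
    exact mem_upper.mpr ⟨0, v, by rw [SL2.up_zero]⟩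
  haveI hVn : (transl p).Normal := by rw [transl]; infer_instance
  have hVT' : transl p ≤ (T' : Subgroup ↥(Cfsg.qd p)) := ZJ.normal_le_sylow isPGroup_transl T'
  set g := el (weyl (p := p)) 0
  obtain ⟨n, hn, hne⟩ := (hfus _ hVT').2 g (by
    rintro _ ⟨a, ha, rfl⟩
    exact hVT' (hVn.conj_mem a ha g))
  -- `n` induces the Weyl element
  have hnp : pr n = weyl := by
    obtain ⟨m, w, rfl⟩ := el_surj n
    rw [pr_el]
    refine Subtype.ext (Matrix.ext fun i j => ?_)
    have h := hne (el 1 (Pi.single j 1)) (mem_transl.mpr ⟨_, rfl⟩)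
    rw [conj_el_one, conj_el_one] at h
    have h2 := congrFun (el_inj h).2 i
    rw [Matrix.mulVec_single_one, Matrix.mulVec_single_one] at h2
    exact h2.symm
  have hupN : upper p ≤ Subgroup.normalizer (U : Set ↥(Cfsg.qd p)) :=
    Subgroup.le_normalizer.trans (ZJ.normalizer_le_normalizer_zJ 0 _)
  -- so `U` is normal
  set M := Subgroup.normalizer (U : Set ↥(Cfsg.qd p)) with hMdef
  have hupM : el (p := p) (SL2.up (1 : ZMod p)) 0 ∈ M := hupN (mem_upper.mpr ⟨1, 0, rfl⟩)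
  have hMtop : M = ⊤ := by
    have hmap : M.map pr = ⊤ := by
      refine eq_top_of_up_lo ⟨_, hupM, pr_el _ _⟩
        ⟨n * (el (p := p) (SL2.up (1 : ZMod p)) 0)⁻¹ * n⁻¹,
          mul_mem (mul_mem hn (inv_mem hupM)) (inv_mem hn), ?_⟩
      rw [map_mul, map_mul, map_inv, map_inv, hnp, pr_el, ← SL2.up_neg, weyl_conj]
    rw [eq_top_iff]
    intro x _
    obtain ⟨y, hy, hyx⟩ : pr x ∈ M.map pr := hmap ▸ Subgroup.mem_top _
    have h1 : y⁻¹ * x ∈ transl p := by
      rw [transl, MonoidHom.mem_ker, map_mul, map_inv, hyx, inv_mul_cancel]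
    simpa using mul_mem hy (hupN (hVT h1))
  haveI hUn : U.Normal := Subgroup.normalizer_eq_top_iff.mp hMtop
  -- the two abelian subgroups of order `p ^ 2`
  let A : Subgroup ↥(Cfsg.qd p) :=
    { carrier := {x | ∃ s a : ZMod p, el (p := p) (SL2.up s) ![a, 0] = x}
      one_mem' := ⟨0, 0, by rw [← el_one, SL2.up_zero]; congr 1; ext i : 1; fin_cases i <;> simp⟩
      mul_mem' := by
        rintro _ _ ⟨s, a, rfl⟩ ⟨t, b, rfl⟩
        refine ⟨s + t, a + b, ?_⟩
        rw [el_mul, SL2.up_add, up_mulVec]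
        congr 1
        ext i : 1; fin_cases i <;> simp
      inv_mem' := by
        rintro _ ⟨s, a, rfl⟩
        refine ⟨-s, -a, eq_inv_of_mul_eq_one_left ?_⟩
        rw [el_mul, ← SL2.up_add, neg_add_cancel, up_mulVec, ← el_one, SL2.up_zero]
        congr 1
        ext i : 1; fin_cases i <;> simp }
  have hAT : A ≤ upper p := by
    rintro _ ⟨s, a, rfl⟩
    exact mem_upper.mpr ⟨s, _, rfl⟩
  have hAc : ∀ x ∈ A, ∀ y ∈ A, x * y = y * x := by
    rintro _ ⟨s, a, rfl⟩ _ ⟨t, b, rfl⟩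
    rw [el_mul, el_mul, ← SL2.up_add, ← SL2.up_add, add_comm s, up_mulVec, up_mulVec]
    congr 1
    ext i : 1; fin_cases i <;> simp [add_comm]
  have hAcard : Nat.card A = p ^ 2 := by
    let e : ZMod p × ZMod p ≃ A := Equiv.ofBijective (fun z => ⟨el (p := p) (SL2.up z.1) ![z.2, 0], z.1, z.2, rfl⟩)
      ⟨fun z w h => by
        obtain ⟨h1, h2⟩ := el_inj (congrArg Subtype.val h)
        refine Prod.ext ?_ (by simpa using congrFun h2 0)
        simpa [SL2.up_coe] using congrArg (fun M : SL(2, ZMod p) => M.1 0 1) h1,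
      fun ⟨_, s, a, rfl⟩ => ⟨(s, a), rfl⟩⟩
    rw [← Nat.card_congr e, Nat.card_prod, Nat.card_zmod, sq]
  have hmax : ∀ B : Subgroup ↥(Cfsg.qd p), B ≤ upper p → Transfer.IsAbExp 0 B → Nat.card B ≤ p ^ 2 := by
    intro B hB hBab
    by_contra hlt
    push Not at hlt
    obtain ⟨k, hk, hkB⟩ := (Nat.dvd_prime_pow hp.out).mp (card_upper (p := p) ▸ Subgroup.card_dvd_of_le hB)
    have hk3 : k = 3 := by
      rw [hkB] at hlt
      have := (Nat.pow_lt_pow_iff_right hp.out.one_lt).mp hlt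
      omega
    have hBeq : B = upper p := Subgroup.eq_of_le_of_card_ge hB (by rw [hkB, hk3, card_upper])
    obtain ⟨hc, -⟩ := hBab
    have h1 : el (p := p) (SL2.up (1 : ZMod p)) 0 ∈ B := hBeq ▸ mem_upper.mpr ⟨1, 0, rfl⟩
    have h2 : el (1 : SL(2, ZMod p)) ![0, 1] ∈ B := hBeq ▸ hVT (mem_transl.mpr ⟨_, rfl⟩)
    have h3 := congrArg Subtype.val (mul_comm' (⟨_, h1⟩ : B) ⟨_, h2⟩)
    simp only [Subgroup.coe_mul, el_mul, mul_one, one_mul, Matrix.mulVec_zero, add_zero, zero_add,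
      up_mulVec] at h3
    simpa using congrFun (el_inj h3).2 0
  have hAm : A ∈ Transfer.maxAbExp 0 (upper p) :=
    ⟨hAT, ⟨⟨⟨fun x y => Subtype.ext (hAc x x.2 y y.2)⟩⟩, fun x _ => pow_zero x⟩,
      fun B hB hB' => hAcard.symm ▸ hmax B hB hB'⟩
  have hAJ : A ≤ Transfer.thompsonJ 0 (upper p) := le_sSup hAm
  have hUA : ∀ u ∈ U, ∀ a ∈ A, a * u = u * a := fun u hu a ha =>
    (Subgroup.mem_inf.mp hu).2 a (hAJ ha)
  obtain ⟨z, hzU, hz1⟩ : ∃ z ∈ U, z ≠ 1 := by
    obtain ⟨z, hz, hz1, -⟩ := ZJ.zJ_ne_bot (Or.inl rfl) hTp (fun h => by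
      have := card_upper (p := p)
      rw [h, Subgroup.card_bot] at this
      exact (Nat.one_lt_pow (by norm_num) hp.out.one_lt).ne this)
    exact ⟨z, hz, hz1⟩
  have hkey : ∀ u ∈ U, ∃ a, el (p := p) 1 ![a, 0] = u := by
    intro u hu
    obtain ⟨s, v, rfl⟩ := mem_upper.mp (ZJ.zJ_le 0 _ hu)
    have hs : s = 0 := by
      by_contra hs
      have hn' : el (p := p) (SL2.up s) v ∈ U := hu
      obtain ⟨m, hm⟩ := ZMod.natCast_zmod_surjective (s⁻¹)
      have hpow : ∀ m : ℕ, ∃ w, el (p := p) (SL2.up ((m : ZMod p) * s)) w = el (p := p) (SL2.up s) v ^ m := by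
        intro m
        induction m with
        | zero => exact ⟨0, by simp [SL2.up_zero, el_one]⟩
        | succ m ih =>
          obtain ⟨w, hw⟩ := ih
          exact ⟨_, by rw [pow_succ, ← hw, el_mul, ← SL2.up_add, Nat.cast_succ, add_one_mul]⟩
      obtain ⟨w, hw⟩ := hpow m
      rw [hm, inv_mul_cancel₀ hs] at hw
      refine not_mem_of_normal hp2 (D := U) (fun d hd => ?_) w (hw ▸ pow_mem hn' m)
      obtain ⟨k, hk⟩ := (hTp.to_le (ZJ.zJ_le 0 _)) ⟨d, hd⟩
      refine ⟨k, ?_⟩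
      rw [show d ^ p ^ k = 1 from congrArg Subtype.val hk]
      exact one_mem _
    subst hs
    rw [SL2.up_zero] at hu ⊢
    have h1 := hUA _ hu (el (p := p) (SL2.up 1) ![0, 0]) ⟨1, 0, rfl⟩
    rw [el_mul, el_mul, mul_one, one_mul, up_mulVec, Matrix.SpecialLinearGroup.coe_one,
      Matrix.one_mulVec] at h1
    have h2 := congrFun (el_inj h1).2 0
    simp at h2
    refine ⟨v 0, ?_⟩
    congr 1
    ext i : 1
    fin_cases i
    · simp
    · simp; exact h2.symm
  obtain ⟨a, rfl⟩ := hkey z hzU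
  have h1 := hUn.conj_mem _ hzU (el weyl 0)
  rw [conj_el_one] at h1
  obtain ⟨b, hb⟩ := hkey _ h1
  have h2 := congrFun (el_inj hb).2 1
  simp [weyl, Matrix.mulVec, dotProduct, Fin.sum_univ_two] at h2
  exact hz1 (by rw [← el_one, ← h2]; congr 1; ext i : 1; fin_cases i <;> simp)

end CfsgLib.Qd
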