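import Mathlib
import Cfsg.Agent.Lib.Qd.Facts
import Cfsg.Agent.Lib.Transfer.Sylow

/-!
`Qd(p)` involved in `G` is involved in a `p`-local subgroup, and so `SL(2, p)` is as well.
-/

set_option autoImplicit false
set_option linter.style.haveILetI false

namespace CfsgLib.Qd

open scoped MatrixGroups

variable {p : ℕ} [hp : Fact p.Prime]

theorem involves_sl2_of_involves_qd {G : Type*} [Group G]
    (h : Cfsg.Involves ↥(Cfsg.qd p) G) : Cfsg.Involves SL(2, ZMod p) G := by
  obtain ⟨K, ψ, hψ⟩ := Offender.exists_hom_of_involves h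
  have hpr : Function.Surjective (pr (p := p)) := fun g => ⟨el g 0, pr_el g 0⟩
  exact Offender.involves_of_hom (pr.comp ψ) (hpr.comp hψ)

/-- `Qd(p)` lives in the normalizer of a non-trivial `p`-subgroup. -/
theorem exists_local_of_involves_qd {G : Type*} [Group G] [Finite G]
    (h : Cfsg.Involves ↥(Cfsg.qd p) G) :
    ∃ P : Subgroup G, IsPGroup p P ∧ P ≠ ⊥ ∧
      Cfsg.Involves ↥(Cfsg.qd p) ↥(Subgroup.normalizer (P : Set G)) := by
  obtain ⟨K, ψ, hψ⟩ := Offender.exists_hom_of_involves h
  haveI hVn : (transl p).Normal := by rw [transl]; infer_instance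
  set U := (transl p).comap ψ with hU
  haveI : U.Normal := hVn.comap ψ
  obtain ⟨T⟩ : Nonempty (Sylow p U) := inferInstance
  set T' := (T : Subgroup U).map U.subtype with hT'
  let ψU : U →* transl p := ψ.subgroupComap (transl p)
  have hψU : Function.Surjective ψU := ψ.subgroupComap_surjective_of_surjective _ hψ
  have htop : (T : Subgroup U).map ψU = ⊤ := by
    have h1 := (T.mapSurjective hψU).3 (isPGroup_transl.to_subgroup ⊤) le_top
    rw [Sylow.coe_mapSurjective] at h1
    exact h1.symm
  have himg : T'.map ψ = transl p := by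
    rw [hT', Subgroup.map_map, show ψ.comp U.subtype = (transl p).subtype.comp ψU from rfl,
      ← Subgroup.map_map, htop, ← MonoidHom.range_eq_map, Subgroup.range_subtype]
  set M := Subgroup.normalizer (T' : Set K) with hM
  have hMtop : M.map ψ = ⊤ := by
    have h1 := congrArg (Subgroup.map ψ) (Sylow.normalizer_sup_eq_top T)
    rw [Subgroup.map_sup, Subgroup.map_top_of_surjective _ hψ, ← hT', ← hM] at h1
    refine eq_top_iff.mpr (h1.ge.trans (sup_le le_rfl ?_))
    refine (Subgroup.map_comap_le ψ _).trans ?_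
    rw [← himg]
    exact Subgroup.map_mono Subgroup.le_normalizer
  set P := T'.map K.subtype with hP
  refine ⟨P, (T.2.map _).map _, fun hbot => ?_, ?_⟩
  · have h1 : T' = ⊥ := (Subgroup.map_eq_bot_iff_of_injective _ K.subtype_injective).mp hbot
    have h2 : el (p := p) 1 ![1, 0] ∈ (⊥ : Subgroup ↥(Cfsg.qd p)) := by
      rw [← Subgroup.map_bot ψ, ← h1, himg]
      exact mem_transl.mpr ⟨_, rfl⟩
    rw [Subgroup.mem_bot, ← el_one] at h2
    simpa using congrFun (el_inj h2).2 0
  · have hM2 : M.map K.subtype ≤ Subgroup.normalizer (P : Set G) :=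
      Subgroup.le_normalizer_map K.subtype
    let e := M.equivMapOfInjective K.subtype K.subtype_injective
    have hsurj : Function.Surjective (ψ.comp M.subtype) := fun y => by
      obtain ⟨x, hx, rfl⟩ := (hMtop ▸ Subgroup.mem_top y : y ∈ M.map ψ)
      exact ⟨⟨x, hx⟩, rfl⟩
    let e' := Subgroup.subgroupOfEquivOfLe hM2
    exact Offender.involves_of_hom
      (((ψ.comp M.subtype).comp e.symm.toMonoidHom).comp e'.toMonoidHom)
      ((hsurj.comp e.symm.surjective).comp e'.surjective)

end CfsgLib.Qd
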