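import Mathlib
import Cfsg.Prelude.Def_CaseTheorems
import Cfsg.Agent.Lib.Qd.Basic
import Cfsg.Agent.Lib.OddOmega.Basic
import Cfsg.Agent.Lib.Coprime.Action
import Cfsg.Agent.Lib.Coprime.Generation
import Cfsg.Agent.Lib.Coprime.NoncyclicAbelian

/-!
An extension of a `p`-group by `Qd(p)`, `p ≥ 5`, of `p`-rank two is trivial.
-/

set_option autoImplicit false
set_option linter.style.haveILetI false

namespace CfsgLib.Qd

open scoped MatrixGroups commutatorElement

variable {p : ℕ} [hp : Fact p.Prime]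

theorem eq_of_zpow_mem {G : Type*} [Group G] {H : Subgroup G} {y : G} (hy : y ^ p = 1) (hyH : y ∉ H)
    {k l : ℕ} (hk : k < p) (hl : l < p) (h : y ^ ((k : ℤ) - l) ∈ H) : k = l := by
  by_contra hne
  have hcop : Int.gcd ((k : ℤ) - l) p = 1 := by
    rw [Int.gcd_eq_natAbs, Int.natAbs_natCast]
    refine ((Nat.Prime.coprime_iff_not_dvd hp.out).mpr fun hd => ?_).symm
    have := Nat.le_of_dvd (by omega) hd
    omega
  apply hyH
  have hb := Int.gcd_eq_gcd_ab ((k : ℤ) - l) p
  rw [hcop] at hb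
  have : y = (y ^ ((k : ℤ) - l)) ^ (Int.gcdA ((k : ℤ) - l) p) := by
    conv_lhs => rw [← zpow_one y, show (1 : ℤ) = ((1 : ℕ) : ℤ) from rfl, hb, zpow_add, zpow_mul,
      zpow_mul, zpow_natCast y p, hy, one_zpow, mul_one]
  rw [this]
  exact zpow_mem h _

/-- Three independent commuting elements of order `p` exclude rank at most two. -/
theorem not_rank_le_two {G : Type*} [Group G] [Finite G] {z a y : G} (hz : z ^ p = 1) (ha : a ^ p = 1)
    (hy : y ^ p = 1) (hza : Commute z a) (hzy : Commute z y) (hay : Commute a y) (hz1 : z ≠ 1)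
    (ha' : a ∉ Subgroup.zpowers z) (hy' : y ∉ Subgroup.zpowers z ⊔ Subgroup.zpowers a) :
    ¬ Cfsg.PRankLE p 2 G := by
  intro hr
  have hcomm : ∀ u ∈ ({z, a, y} : Set G), ∀ v ∈ ({z, a, y} : Set G), u * v = v * u := by
    rintro u (rfl | rfl | rfl) v (rfl | rfl | rfl)
    exacts [rfl, hza.eq, hzy.eq, hza.eq.symm, rfl, hay.eq, hzy.eq.symm, hay.eq.symm, rfl]
  haveI := Subgroup.isMulCommutative_closure hcomm
  set A := Subgroup.closure ({z, a, y} : Set G)
  have hzA : z ∈ A := Subgroup.subset_closure (by simp)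
  have haA : a ∈ A := Subgroup.subset_closure (by simp)
  have hyA : y ∈ A := Subgroup.subset_closure (by simp)
  have hexp : ∀ u ∈ A, u ^ p = 1 := by
    intro u hu
    have := Subgroup.closure_induction (k := ({z, a, y} : Set G))
      (p := fun u _ => u ^ p = 1) ?_ (one_pow p) ?_ ?_ hu
    · exact this
    · rintro u (rfl | rfl | rfl) <;> assumption
    · intro u v hu' hv' h1 h2
      have hc : Commute u v :=
        congrArg Subtype.val (mul_comm' (⟨u, hu'⟩ : A) ⟨v, hv'⟩)
      rw [hc.mul_pow, h1, h2, one_mul]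
    · intro u _ h1
      rw [inv_pow, h1, inv_one]
  let f : Fin p × Fin p × Fin p → A := fun t => ⟨z ^ (t.1 : ℕ) * a ^ (t.2.1 : ℕ) * y ^ (t.2.2 : ℕ),
    mul_mem (mul_mem (pow_mem hzA _) (pow_mem haA _)) (pow_mem hyA _)⟩
  have hf : Function.Injective f := by
    rintro ⟨i, j, k⟩ ⟨i', j', k'⟩ h
    have h0 : z ^ (i : ℕ) * a ^ (j : ℕ) * y ^ (k : ℕ) = z ^ (i' : ℕ) * a ^ (j' : ℕ) * y ^ (k' : ℕ) :=
      congrArg Subtype.val h
    have hk : k = k' := Fin.ext (eq_of_zpow_mem hy hy' k.2 k'.2 (by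
      rw [zpow_sub, zpow_natCast, zpow_natCast, show y ^ (k : ℕ) * (y ^ (k' : ℕ))⁻¹
        = (z ^ (i : ℕ) * a ^ (j : ℕ))⁻¹ * (z ^ (i : ℕ) * a ^ (j : ℕ) * y ^ (k : ℕ)) *
          (y ^ (k' : ℕ))⁻¹ by group, h0, mul_assoc, mul_inv_cancel_right]
      exact mul_mem (inv_mem (mul_mem (pow_mem (Subgroup.mem_sup_left (Subgroup.mem_zpowers z)) _)
        (pow_mem (Subgroup.mem_sup_right (Subgroup.mem_zpowers a)) _)))
        (mul_mem (pow_mem (Subgroup.mem_sup_left (Subgroup.mem_zpowers z)) _)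
        (pow_mem (Subgroup.mem_sup_right (Subgroup.mem_zpowers a)) _))))
    subst hk
    replace h0 := mul_right_cancel h0
    have hj : j = j' := Fin.ext (eq_of_zpow_mem ha ha' j.2 j'.2 (by
      rw [zpow_sub, zpow_natCast, zpow_natCast, show a ^ (j : ℕ) * (a ^ (j' : ℕ))⁻¹
        = (z ^ (i : ℕ))⁻¹ * (z ^ (i : ℕ) * a ^ (j : ℕ)) * (a ^ (j' : ℕ))⁻¹ by group, h0,
        mul_assoc, mul_inv_cancel_right]
      exact mul_mem (inv_mem (pow_mem (Subgroup.mem_zpowers z) _))
        (pow_mem (Subgroup.mem_zpowers z) _)))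
    subst hj
    have hi : i = i' := Fin.ext (eq_of_zpow_mem (H := ⊥) hz (by simpa using hz1) i.2 i'.2 (by
      rw [zpow_sub, zpow_natCast, zpow_natCast, mul_right_cancel h0, mul_inv_cancel]
      exact one_mem _))
    rw [hi]
  have h1 := Nat.card_le_card_of_injective f hf
  have h2 := hr A inferInstance hexp
  rw [Nat.card_prod, Nat.card_prod, Nat.card_fin] at h1
  have : p ^ 2 < p * (p * p) := by
    have := hp.out.two_le
    nlinarith
  omega

/-- An involution acting non-trivially on an odd `p`-group inverts an element of order `p`. -/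
theorem exists_inverted {G : Type*} [Group G] [Finite G] (hp2 : p ≠ 2) {i : G} (hi : i * i = 1)
    {W : Subgroup G} (hW : IsPGroup p W) (hiW : ∀ w ∈ W, i * w * i ∈ W) {w : G} (hw : w ∈ W)
    (hne : i * w * i ≠ w) : ∃ a ∈ W, a ^ p = 1 ∧ a ≠ 1 ∧ i * a * i = a⁻¹ := by
  let φ : MulAut W :=
    { toFun := fun x => ⟨i * x * i, hiW x x.2⟩
      invFun := fun x => ⟨i * x * i, hiW x x.2⟩
      left_inv := fun x => Subtype.ext (by
        show i * (i * x * i) * i = x
        rw [show i * (i * (x : G) * i) * i = (i * i) * x * (i * i) by group, hi, one_mul, mul_one])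
      right_inv := fun x => Subtype.ext (by
        show i * (i * x * i) * i = x
        rw [show i * (i * (x : G) * i) * i = (i * i) * x * (i * i) by group, hi, one_mul, mul_one])
      map_mul' := fun x y => Subtype.ext (by
        show i * (x * y) * i = (i * x * i) * (i * y * i)
        rw [show (i * (x : G) * i) * (i * y * i) = i * x * (i * i) * y * i by group, hi, mul_one]
        group) }
  have hφ2 : φ ^ 2 = 1 := by
    ext x
    show i * (i * x * i) * i = x
    rw [show i * (i * (x : G) * i) * i = (i * i) * x * (i * i) by group, hi, one_mul, mul_one]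
  have hnd : ¬ p ∣ orderOf φ := fun h =>
    hp2 ((Nat.prime_dvd_prime_iff_eq hp.out Nat.prime_two).mp
      (h.trans (orderOf_dvd_of_pow_eq_one hφ2)))
  obtain ⟨x, hx, hxne⟩ : ∃ x : W, x ^ p = 1 ∧ φ x ≠ x := by
    by_contra! h
    exact hne (congrArg Subtype.val
      (DFunLike.congr_fun (CfsgLib.OddOmega.eq_one_of_fixes_omega hp2 hW φ hnd h) ⟨w, hw⟩))
  set b : G := (x : G)⁻¹ * (i * x * i) with hb
  have hbW : b ∈ W := mul_mem (inv_mem x.2) (hiW x x.2)
  have hbi : i * b * i = b⁻¹ := by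
    have hinv : i⁻¹ = i := inv_eq_of_mul_eq_one_right hi
    rw [hb, mul_inv_rev, inv_inv, mul_inv_rev, mul_inv_rev, hinv,
      show i * ((x : G)⁻¹ * (i * x * i)) * i = i * (x : G)⁻¹ * i * x * (i * i) by group, hi, mul_one]
    group
  have hb1 : b ≠ 1 := fun h => hxne (Subtype.ext (show i * (x : G) * i = x by
    rw [hb] at h; exact (inv_mul_eq_one.mp h).symm))
  obtain ⟨k, hk⟩ := IsPGroup.iff_orderOf.mp hW ⟨b, hbW⟩
  rw [Subgroup.orderOf_mk] at hk
  obtain ⟨m, rfl⟩ : ∃ m, k = m + 1 := by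
    refine ⟨k - 1, ?_⟩
    rcases Nat.eq_zero_or_pos k with rfl | h
    · exact absurd (orderOf_eq_one_iff.mp (by rw [hk, pow_zero])) hb1
    · omega
  refine ⟨b ^ p ^ m, pow_mem hbW _, ?_, ?_, ?_⟩
  · rw [← pow_mul, ← pow_succ, ← hk, pow_orderOf_eq_one]
  · intro h
    have := Nat.le_of_dvd (pow_pos hp.out.pos m) (orderOf_dvd_of_pow_eq_one h)
    rw [hk] at this
    exact absurd this (not_le.mpr (Nat.pow_lt_pow_right hp.out.one_lt (by omega)))
  · have hinv : i⁻¹ = i := inv_eq_of_mul_eq_one_right hi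
    rw [← inv_pow, ← hbi]
    have h := conj_pow (a := i) (b := b) (i := p ^ m)
    rw [hinv] at h
    exact h.symm

/-- An endomorphism of period `p ≥ 5` of a homocyclic abelian group, unipotent of degree two modulo
`p`, is trivial modulo `p`. -/
theorem diff_mem_of_period {V : Type*} [CommGroup V] (hp3 : 3 < p) (U : Subgroup V) (f : V →* V)
    (hfp : ∀ v, f^[p] v = v) (hUp : ∀ u ∈ U, ∃ x : V, u = x ^ p)
    (hinj : ∀ x v : V, x ^ p = v ^ (p * p) → x ∈ U)
    (hd2 : ∀ v, f (f v * v⁻¹) * (f v * v⁻¹)⁻¹ ∈ U) (v : V) : f v * v⁻¹ ∈ U := by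
  let d : V →* V :=
    { toFun := fun v => f v * v⁻¹
      map_one' := by simp
      map_mul' := fun a b => by
        show f (a * b) * (a * b)⁻¹ = f a * a⁻¹ * (f b * b⁻¹)
        rw [map_mul, mul_inv]; exact mul_mul_mul_comm _ _ _ _ }
  have hd : ∀ v, f v = v * d v := fun v => by
    show f v = v * (f v * v⁻¹); rw [mul_comm v, inv_mul_cancel_right]
  obtain ⟨x, hx⟩ := hUp _ (hd2 v)
  obtain ⟨x', hx'⟩ := hUp _ (hd2 x)
  have hx1 : d (d v) = x ^ p := hx
  have h4 : d (d (d (d v))) = x' ^ (p * p) := by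
    rw [hx1, map_pow, map_pow, show d (d x) = x' ^ p from hx', ← pow_mul]
  have hk : ∀ k : ℕ, ∃ r : V, f^[k] v
      = v * d v ^ k * d (d v) ^ k.choose 2 * d (d (d v)) ^ k.choose 3 * r ^ (p * p) := by
    intro k
    induction k with
    | zero => exact ⟨1, by simp⟩
    | succ k ih =>
      obtain ⟨r, hr⟩ := ih
      refine ⟨x' ^ k.choose 3 * f r, ?_⟩
      rw [Function.iterate_succ_apply', hr, map_mul, map_mul, map_mul, map_mul, map_pow, map_pow,
        map_pow, map_pow, hd v, hd (d v), hd (d (d v)), hd (d (d (d v))), h4,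
        Nat.choose_succ_succ k 1, Nat.choose_succ_succ k 2, Nat.choose_one_right]
      simp only [Nat.succ_eq_add_one, Nat.reduceAdd, mul_pow, pow_add, pow_one, ← pow_mul,
        mul_comm (p * p) (k.choose 3)]
      apply Additive.ofMul.injective
      simp only [ofMul_mul, ofMul_pow]
      abel
  obtain ⟨r, hr⟩ := hk p
  rw [hfp v] at hr
  obtain ⟨c2, hc2⟩ : p ∣ p.choose 2 := hp.out.dvd_choose_self two_ne_zero (by omega)
  obtain ⟨c3, hc3⟩ : p ∣ p.choose 3 := hp.out.dvd_choose_self (by omega) (by omega)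
  refine hinj (d v) (x ^ c2 * d x ^ c3 * r)⁻¹ ?_
  have h' : d v ^ p * (d (d v) ^ p.choose 2 * d (d (d v)) ^ p.choose 3 * r ^ (p * p)) = 1 := by
    have h'' := congrArg (fun t => v⁻¹ * t) hr
    simp only [inv_mul_cancel, mul_assoc, inv_mul_cancel_left] at h''
    simpa only [mul_assoc] using h''.symm
  rw [eq_inv_of_mul_eq_one_left h', hx1, map_pow, hc2, hc3, inv_pow]
  congr 1
  rw [mul_pow, mul_pow, ← pow_mul, ← pow_mul, ← pow_mul, ← pow_mul]
  congr 2
  · congr 1; ring
  · congr 1; ring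

/-! ### Elements of `Qd(p)` -/

/-- Upper unipotent matrix. -/
def upperMat (c : ZMod p) : SL(2, ZMod p) := ⟨!![1, c; 0, 1], by simp [Matrix.det_fin_two]⟩

/-- Lower unipotent matrix. -/
def lowerMat (c : ZMod p) : SL(2, ZMod p) := ⟨!![1, 0; c, 1], by simp [Matrix.det_fin_two]⟩

/-- Minus the identity. -/
def negMat : SL(2, ZMod p) := ⟨!![-1, 0; 0, -1], by simp [Matrix.det_fin_two]⟩

/-- A diagonal matrix of determinant one. -/
def diaMat (t : (ZMod p)ˣ) : SL(2, ZMod p) :=
  ⟨!![(t : ZMod p), 0; 0, ((t⁻¹ : (ZMod p)ˣ) : ZMod p)], by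
    rw [Matrix.det_fin_two_of, mul_zero, sub_zero, Units.mul_inv]⟩

@[simp] theorem upperMat_coe (c : ZMod p) : (upperMat c).1 = !![1, c; 0, 1] := rfl

@[simp] theorem lowerMat_coe (c : ZMod p) : (lowerMat c).1 = !![1, 0; c, 1] := rfl

@[simp] theorem negMat_coe : (negMat : SL(2, ZMod p)).1 = !![-1, 0; 0, -1] := rfl

@[simp] theorem diaMat_coe (t : (ZMod p)ˣ) :
    (diaMat t).1 = !![(t : ZMod p), 0; 0, ((t⁻¹ : (ZMod p)ˣ) : ZMod p)] := rfl

/-- Upper unipotent. -/
def upperEl (c : ZMod p) : ↥(Cfsg.qd p) := el (upperMat c) 0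

/-- Lower unipotent. -/
def lower (c : ZMod p) : ↥(Cfsg.qd p) := el (lowerMat c) 0

/-- The central involution of the linear part. -/
def negOne : ↥(Cfsg.qd p) := el negMat 0

/-- A diagonal element. -/
def dia (t : (ZMod p)ˣ) : ↥(Cfsg.qd p) := el (diaMat t) 0

/-- A translation. -/
def trans (v : Fin 2 → ZMod p) : ↥(Cfsg.qd p) := el 1 v

omit hp in
theorem el_ext {g h : SL(2, ZMod p)} {v w : Fin 2 → ZMod p} (h1 : ∀ i j, g.1 i j = h.1 i j)
    (h2 : v = w) : el g v = el h w := by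
  rw [Matrix.SpecialLinearGroup.ext g h h1, h2]

theorem upper_mul (c d : ZMod p) : upperEl c * upperEl d = upperEl (c + d) := by
  rw [upperEl, upperEl, upperEl, el_mul]
  refine el_ext (fun i j => ?_) (by simp)
  fin_cases i <;> fin_cases j <;> simp [Matrix.SpecialLinearGroup.coe_mul, Matrix.mul_apply, Fin.sum_univ_two, add_comm]

theorem upper_zero : (upperEl 0 : ↥(Cfsg.qd p)) = 1 := by
  rw [upperEl, ← el_one]
  exact el_ext (fun i j => by fin_cases i <;> fin_cases j <;> simp) rfl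

theorem upper_pow (c : ZMod p) (n : ℕ) : upperEl c ^ n = upperEl ((n : ZMod p) * c) := by
  induction n with
  | zero => simp [upper_zero]
  | succ n ih => rw [pow_succ, ih, upper_mul]; push_cast; ring_nf

theorem commute_negOne (g : SL(2, ZMod p)) : Commute (el g 0) (negOne : ↥(Cfsg.qd p)) := by
  show _ * _ = _ * _
  rw [negOne, el_mul, el_mul]
  refine el_ext (fun i j => ?_) (by simp)
  fin_cases i <;> fin_cases j <;> simp [Matrix.SpecialLinearGroup.coe_mul, Matrix.mul_apply, Fin.sum_univ_two, -Units.val_inv_eq_inv_val]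

theorem negOne_sq : (negOne : ↥(Cfsg.qd p)) * negOne = 1 := by
  rw [negOne, el_mul, ← el_one]
  exact el_ext (fun i j => by fin_cases i <;> fin_cases j <;>
    simp [Matrix.SpecialLinearGroup.coe_mul, Matrix.mul_apply, Fin.sum_univ_two, -Units.val_inv_eq_inv_val]) (by simp)

theorem negOne_ne_one (hp2 : p ≠ 2) : (negOne : ↥(Cfsg.qd p)) ≠ 1 := by
  intro h
  rw [negOne, ← el_one] at h
  have h' : (-1 : ZMod p) = 1 := by
    have := congrArg (fun g : SL(2, ZMod p) => g.1 0 0) (el_inj h).1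
    simpa using this
  haveI : Fact (2 < p) := ⟨lt_of_le_of_ne hp.out.two_le (Ne.symm hp2)⟩
  exact ZMod.neg_one_ne_one h'

theorem dia_conj_upper (t : (ZMod p)ˣ) (c : ZMod p) :
    dia t * upperEl c = upperEl ((t : ZMod p) * (t : ZMod p) * c) * dia t := by
  rw [dia, upperEl, upperEl, el_mul, el_mul]
  refine el_ext (fun i j => ?_) (by simp only [Matrix.mulVec_zero, add_zero])
  simp only [Matrix.SpecialLinearGroup.coe_mul, diaMat_coe, upperMat_coe, lowerMat_coe]
  have h := Units.inv_mul t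
  generalize (t : ZMod p) = a at h ⊢
  generalize ((t⁻¹ : (ZMod p)ˣ) : ZMod p) = b at h ⊢
  fin_cases i <;> fin_cases j <;> simp [Matrix.mul_apply, Fin.sum_univ_two]
  · linear_combination (-(a * c)) * h

theorem dia_conj_lower (t : (ZMod p)ˣ) (c : ZMod p) :
    dia t * lower c
      = lower (((t⁻¹ : (ZMod p)ˣ) : ZMod p) * ((t⁻¹ : (ZMod p)ˣ) : ZMod p) * c) * dia t := by
  rw [dia, lower, lower, el_mul, el_mul]
  refine el_ext (fun i j => ?_) (by simp only [Matrix.mulVec_zero, add_zero])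
  simp only [Matrix.SpecialLinearGroup.coe_mul, diaMat_coe, upperMat_coe, lowerMat_coe]
  have h := Units.inv_mul t
  generalize (t : ZMod p) = a at h ⊢
  generalize ((t⁻¹ : (ZMod p)ˣ) : ZMod p) = b at h ⊢
  fin_cases i <;> fin_cases j <;> simp [Matrix.mul_apply, Fin.sum_univ_two]
  · linear_combination (-(b * c)) * h

theorem lower_mul (c d : ZMod p) : lower c * lower d = lower (c + d) := by
  rw [lower, lower, lower, el_mul]
  refine el_ext (fun i j => ?_) (by simp)
  fin_cases i <;> fin_cases j <;> simp [Matrix.SpecialLinearGroup.coe_mul, Matrix.mul_apply, Fin.sum_univ_two, add_comm]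

theorem dia_eq (t : (ZMod p)ˣ) : dia t = upperEl (t : ZMod p) *
    lower (-((t⁻¹ : (ZMod p)ˣ) : ZMod p)) * upperEl (t : ZMod p) * upperEl (-1) * lower 1 * upperEl (-1) := by
  rw [dia, upperEl, upperEl, lower, lower, el_mul, el_mul, el_mul, el_mul, el_mul]
  refine el_ext (fun i j => ?_) (by simp only [Matrix.mulVec_zero, add_zero])
  simp only [Matrix.SpecialLinearGroup.coe_mul, diaMat_coe, upperMat_coe, lowerMat_coe]
  have h := Units.inv_mul t
  generalize (t : ZMod p) = a at h ⊢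
  generalize ((t⁻¹ : (ZMod p)ˣ) : ZMod p) = b at h ⊢
  fin_cases i <;> fin_cases j <;> simp [Matrix.mul_apply, Fin.sum_univ_two]
  all_goals first | linear_combination (0 : ZMod p) * h | linear_combination h | linear_combination (-1 : ZMod p) * h | linear_combination a * h | linear_combination (-a) * h | linear_combination b * h | linear_combination (-b) * h

theorem trans_mul (v w : Fin 2 → ZMod p) : trans v * trans w = trans (v + w) := by
  rw [trans, trans, trans, el_mul]; simp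

theorem trans_zero : (trans 0 : ↥(Cfsg.qd p)) = 1 := el_one

theorem trans_inj {v w : Fin 2 → ZMod p} (h : trans v = trans w) : v = w := (el_inj h).2

theorem el_conj_trans (g : SL(2, ZMod p)) (w v : Fin 2 → ZMod p) :
    el g w * trans v = trans (g.1.mulVec v) * el g w := by
  rw [trans, trans, el_mul, el_mul]; simp [add_comm]

theorem upper_conj_trans (c : ZMod p) (v : Fin 2 → ZMod p) :
    upperEl c * trans v * (upperEl c)⁻¹ = trans ![v 0 + c * v 1, v 1] := by
  rw [mul_inv_eq_iff_eq_mul, upperEl, el_conj_trans]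
  congr 2
  ext i
  fin_cases i <;> simp [Matrix.mulVec, dotProduct, Fin.sum_univ_two]

theorem lower_conj_trans (c : ZMod p) (v : Fin 2 → ZMod p) :
    lower c * trans v * (lower c)⁻¹ = trans ![v 0, c * v 0 + v 1] := by
  rw [mul_inv_eq_iff_eq_mul, lower, el_conj_trans]
  congr 2
  ext i
  fin_cases i <;> simp [Matrix.mulVec, dotProduct, Fin.sum_univ_two]

theorem negOne_conj_trans (v : Fin 2 → ZMod p) : negOne * trans v * negOne = trans (-v) := by
  rw [negOne, el_conj_trans, mul_assoc]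
  show _ * (negOne * negOne) = _
  rw [negOne_sq, mul_one]
  congr 1
  ext i
  fin_cases i <;> simp [Matrix.mulVec, dotProduct, Fin.sum_univ_two]

theorem trans_pow (v : Fin 2 → ZMod p) (n : ℕ) : trans v ^ n = trans ((n : ZMod p) • v) := by
  induction n with
  | zero => simp [trans_zero]
  | succ n ih => rw [pow_succ, ih, trans_mul]; push_cast; rw [add_smul, one_smul]

theorem upper_not_trans {c : ZMod p} (hc : c ≠ 0) (v : Fin 2 → ZMod p) : upperEl c ≠ trans v := by
  intro h
  have := congrArg (fun g : SL(2, ZMod p) => g.1 0 1) (el_inj h).1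
  simp at this
  exact hc this

/-- The translations, as a homomorphism. -/
def transHom : Multiplicative (Fin 2 → ZMod p) →* ↥(Cfsg.qd p) where
  toFun v := trans v.toAdd
  map_one' := trans_zero
  map_mul' v w := (trans_mul v.toAdd w.toAdd).symm

/-- **Main result**: a group of `p`-rank at most two mapping onto `Qd(p)` with `p`-group kernel maps
isomorphically. -/
theorem eq_bot_of_rank_two {G : Type*} [Group G] [Finite G] (hp3 : 3 < p) (U : Subgroup G)
    (hU : IsPGroup p U) (φ : G →* ↥(Cfsg.qd p)) (hφ : Function.Surjective φ) (hker : φ.ker = U)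
    (hr : Cfsg.PRankLE p 2 G) : U = ⊥ := by
  have hp2 : p ≠ 2 := by omega
  have hkU : ∀ g, φ g = 1 ↔ g ∈ U := fun g => by rw [← hker]; exact MonoidHom.mem_ker.symm
  by_contra hU1
  -- the preimage of the translations
  set V : Subgroup G := (transHom (p := p)).range.comap φ with hVdef
  have hV : ∀ g, g ∈ V ↔ ∃ v, φ g = trans v := fun g =>
    ⟨fun ⟨v, hv⟩ => ⟨v.toAdd, hv.symm⟩, fun ⟨v, hv⟩ => ⟨Multiplicative.ofAdd v, hv.symm⟩⟩
  have hUV : ∀ g ∈ U, g ∈ V := fun g hg => (hV g).mpr ⟨0, by rw [(hkU g).mpr hg, trans_zero]⟩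
  have hVn : V.Normal := by
    refine ⟨fun x hx g => ?_⟩
    obtain ⟨v, hv⟩ := (hV x).mp hx
    obtain ⟨a, w, haw⟩ := el_surj (φ g)
    refine (hV _).mpr ⟨a.1.mulVec v, ?_⟩
    rw [map_mul, map_mul, map_inv, hv, ← haw, el_conj_trans, mul_inv_cancel_right]
  have hVexp : ∀ x ∈ V, x ^ p ∈ U := by
    intro x hx
    obtain ⟨v, hv⟩ := (hV x).mp hx
    rw [← hkU, map_pow, hv, trans_pow, ZMod.natCast_self, zero_smul, trans_zero]
  have hVp : IsPGroup p V := by
    intro x
    obtain ⟨k, hk⟩ := hU ⟨_, hVexp x x.2⟩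
    refine ⟨k + 1, Subtype.ext ?_⟩
    have hk' : ((x : G) ^ p) ^ p ^ k = 1 := congrArg Subtype.val hk
    rw [SubgroupClass.coe_pow, pow_succ', pow_mul]
    exact hk'
  -- the involution
  have hUodd : ∀ u ∈ U, ∃ m, orderOf u = 2 * m + 1 := fun u hu => by
    obtain ⟨k, hk⟩ := IsPGroup.iff_orderOf.mp hU ⟨u, hu⟩
    rw [Subgroup.orderOf_mk] at hk
    obtain ⟨m, hm⟩ := (hp.out.odd_of_ne_two hp2).pow (n := k)
    exact ⟨m, by omega⟩
  obtain ⟨i, hi, hφi⟩ : ∃ i : G, i * i = 1 ∧ φ i = negOne := by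
    obtain ⟨g, hg⟩ := hφ negOne
    obtain ⟨m, hm⟩ := hUodd (g * g) ((hkU _).mp (by rw [map_mul, hg, negOne_sq]))
    refine ⟨g ^ (2 * m + 1), ?_, ?_⟩
    · rw [← pow_two, ← pow_mul, mul_comm, pow_mul, pow_two g, ← hm, pow_orderOf_eq_one]
    · rw [map_pow, hg, pow_add, pow_mul, pow_two, negOne_sq, one_pow, one_mul, pow_one]
  have hii : i⁻¹ = i := inv_eq_of_mul_eq_one_right hi
  set K := Subgroup.centralizer ({i} : Set G) with hK
  have hKmem : ∀ g, g ∈ K ↔ Commute g i := fun g => Subgroup.mem_centralizer_singleton_iff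
  have hiV : ∀ x ∈ V, i * x * i ∈ V := fun x hx => by
    have := hVn.conj_mem x hx i
    rwa [hii] at this
  have hfixU : ∀ x ∈ V, i * x * i = x → x ∈ U := by
    intro x hx h
    obtain ⟨v, hv⟩ := (hV x).mp hx
    have h' := congrArg φ h
    rw [map_mul, map_mul, hφi, hv, negOne_conj_trans] at h'
    have h2 : v = 0 := by
      haveI : Fact (2 < p) := ⟨by omega⟩
      funext j
      have e : -(v j) = v j := congrFun (trans_inj h') j
      rcases ZMod.neg_eq_self_iff (v j) |>.mp e with e' | e'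
      · exact e'
      · exfalso
        obtain ⟨m, hm⟩ := hp.out.odd_of_ne_two hp2
        omega
    rw [← hkU, hv, h2, trans_zero]
  have hlift : ∀ g₀ : SL(2, ZMod p), ∃ g ∈ K, φ g = el g₀ 0 := by
    intro g₀
    obtain ⟨g, hg⟩ := hφ (el g₀ 0)
    set m := i * (g * i * g⁻¹) with hm
    have hmU : m ∈ U := by
      rw [← hkU, hm, map_mul, map_mul, map_mul, map_inv, hg, hφi, (commute_negOne g₀).eq,
        mul_inv_cancel_right, negOne_sq]
    obtain ⟨r, hr⟩ := hUodd m hmU
    have hm1 : m ^ (2 * r + 1) = 1 := by rw [← hr, pow_orderOf_eq_one]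
    set n := (m ^ (r + 1))⁻¹ with hn
    have hinv : i * m * i⁻¹ = m⁻¹ := by
      rw [hm, mul_inv_rev, conj_inv, hii, ← mul_assoc i i, hi, one_mul]
    have hpow : i * m ^ (r + 1) = (m ^ (r + 1))⁻¹ * i := by
      rw [← inv_pow, ← hinv, conj_pow, inv_mul_cancel_right]
    have hsq : m ^ (r + 1) * m ^ (r + 1) = m := by
      rw [← pow_add, show r + 1 + (r + 1) = 2 * r + 1 + 1 by ring, pow_succ, hm1, one_mul]
    have hgi : n * i * n⁻¹ = g * i * g⁻¹ := by
      rw [hn, inv_inv, ← hpow, mul_assoc i, hsq, hm, ← mul_assoc, hi, one_mul]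
    refine ⟨n⁻¹ * g, (hKmem _).mpr ?_, ?_⟩
    · show n⁻¹ * g * i = i * (n⁻¹ * g)
      calc n⁻¹ * g * i = n⁻¹ * (g * i * g⁻¹) * g := by group
        _ = i * (n⁻¹ * g) := by rw [← hgi]; group
    · have hnU : n ∈ U := inv_mem (pow_mem hmU _)
      rw [map_mul, map_inv, (hkU n).mpr hnU, inv_one, one_mul, hg]
  -- root elements in the derived group of `K`
  have h2ne : (2 : ZMod p) ≠ 0 := fun h => by
    have : p ∣ 2 := (ZMod.natCast_eq_zero_iff 2 p).mp (by exact_mod_cast h)
    have := Nat.le_of_dvd two_pos this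
    omega
  have h3ne : (3 : ZMod p) ≠ 0 := fun h => by
    have : p ∣ 3 := (ZMod.natCast_eq_zero_iff 3 p).mp (by exact_mod_cast h)
    have := Nat.le_of_dvd (by norm_num) this
    omega
  set t : (ZMod p)ˣ := Units.mk0 2 h2ne
  have hti : ((t⁻¹ : (ZMod p)ˣ) : ZMod p) = (2 : ZMod p)⁻¹ := by simp [t]
  have hupper : ∀ c, ∃ g ∈ ⁅K, K⁆, φ g = upperEl c := by
    intro c
    obtain ⟨a, ha, hφa⟩ := hlift (diaMat t)
    obtain ⟨b, hb, hφb⟩ := hlift (upperMat (c / 3))
    refine ⟨⁅a, b⁆, Subgroup.commutator_mem_commutator ha hb, ?_⟩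
    rw [map_commutatorElement, hφa, hφb, commutatorElement_def]
    show dia t * upperEl (c / 3) * (dia t)⁻¹ * (upperEl (c / 3))⁻¹ = upperEl c
    rw [dia_conj_upper, mul_inv_cancel_right, mul_inv_eq_iff_eq_mul, upper_mul]
    congr 1
    show (2 : ZMod p) * 2 * (c / 3) = c + c / 3
    field_simp
    ring
  have hlower : ∀ c, ∃ g ∈ ⁅K, K⁆, φ g = lower c := by
    intro c
    obtain ⟨a, ha, hφa⟩ := hlift (diaMat t)
    obtain ⟨b, hb, hφb⟩ := hlift (lowerMat (-(4 * c) / 3))
    refine ⟨⁅a, b⁆, Subgroup.commutator_mem_commutator ha hb, ?_⟩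
    rw [map_commutatorElement, hφa, hφb, commutatorElement_def]
    show dia t * lower (-(4 * c) / 3) * (dia t)⁻¹ * (lower (-(4 * c) / 3))⁻¹ = lower c
    rw [dia_conj_lower, mul_inv_cancel_right, mul_inv_eq_iff_eq_mul, lower_mul]
    congr 1
    rw [hti]
    field_simp
    ring
  obtain ⟨r, hr1, hφr⟩ := hupper 1
  obtain ⟨D', hD', hφD⟩ : ∃ g ∈ ⁅K, K⁆, φ g = dia t := by
    obtain ⟨g1, h1, e1⟩ := hupper (t : ZMod p)
    obtain ⟨g2, h2, e2⟩ := hlower (-((t⁻¹ : (ZMod p)ˣ) : ZMod p))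
    obtain ⟨g3, h3, e3⟩ := hupper (-1)
    obtain ⟨g4, h4, e4⟩ := hlower 1
    refine ⟨g1 * g2 * g1 * g3 * g4 * g3,
      mul_mem (mul_mem (mul_mem (mul_mem (mul_mem h1 h2) h1) h3) h4) h3, ?_⟩
    rw [map_mul, map_mul, map_mul, map_mul, map_mul, e1, e2, e3, e4, ← dia_eq]
  have hKK : ⁅K, K⁆ ≤ K := Subgroup.commutator_le.mpr fun a ha b hb =>
    mul_mem (mul_mem (mul_mem ha hb) (inv_mem ha)) (inv_mem hb)
  -- the fixed points of `i`
  set C₀ := U ⊓ K with hC₀
  have hC₀V : ∀ c ∈ C₀, c ∈ V := fun c hc => hUV c hc.1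
  have hC₀i : ∀ c ∈ C₀, i * c * i = c := fun c hc => by
    rw [← ((hKmem c).mp hc.2).eq, mul_assoc, hi, mul_one]
  have hnotfix : ∃ x ∈ V, i * x * i ≠ x := by
    obtain ⟨x, hx⟩ := hφ (trans ![1, 0])
    refine ⟨x, (hV x).mpr ⟨_, hx⟩, fun h => ?_⟩
    have := (hkU x).mpr (hfixU x ((hV x).mpr ⟨_, hx⟩) h)
    rw [hx, ← trans_zero] at this
    simpa using congrFun (trans_inj this) 0
  have hinverted : ∀ P : Subgroup G, IsPGroup p P → P ≤ K →
      ∃ a ∈ V, a ∈ Subgroup.centralizer (P : Set G) ∧ a ^ p = 1 ∧ a ≠ 1 ∧ i * a * i = a⁻¹ := by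
    intro P hP hPK
    obtain ⟨x, hx, hxP, hxne⟩ : ∃ x ∈ V, x ∈ Subgroup.centralizer (P : Set G) ∧ i * x * i ≠ x := by
      by_contra! hall
      obtain ⟨x, hx, hxne⟩ := hnotfix
      refine hxne ?_
      have hQ : (Nat.card (Subgroup.zpowers i)).Coprime p := by
        rw [Nat.card_zpowers]
        refine Nat.Coprime.coprime_dvd_left (orderOf_dvd_of_pow_eq_one (by rw [pow_two, hi])) ?_
        exact (Nat.coprime_primes Nat.prime_two hp.out).mpr (Ne.symm hp2)
      have h := CfsgLib.Coprime.pxq (P := P) (Q := Subgroup.zpowers i) (U := V) hP hQ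
        (fun g hg => by
          rw [Subgroup.mem_centralizer_iff]
          rintro _ ⟨k, rfl⟩
          exact (((hKmem g).mp (hPK hg)).symm.zpow_left k).eq)
        hVp (by rw [Subgroup.normalizer_eq_top]; exact le_top)
        (by rw [Subgroup.normalizer_eq_top]; exact le_top) (fun y hy => by
          rw [Subgroup.mem_centralizer_iff]
          rintro _ ⟨k, rfl⟩
          refine (Commute.zpow_left (?_ : Commute i y) k).eq
          show i * y = y * i
          conv_rhs => rw [← hall y hy.1 hy.2]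
          rw [mul_assoc, hi, mul_one])
      have h' := Subgroup.mem_centralizer_iff.mp (h (Subgroup.mem_zpowers i)) x hx
      rw [← h', mul_assoc, hi, mul_one]
    have hW : ∀ w ∈ V ⊓ Subgroup.centralizer (P : Set G),
        i * w * i ∈ V ⊓ Subgroup.centralizer (P : Set G) := by
      rintro w ⟨hw1, hw2⟩
      refine ⟨hiV w hw1, Subgroup.mem_centralizer_iff.mpr fun q hq => ?_⟩
      have e1 : Commute q i := (hKmem q).mp (hPK hq)
      have e2 : Commute q w := Subgroup.mem_centralizer_iff.mp hw2 q hq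
      exact ((e1.mul_right e2).mul_right e1).eq
    obtain ⟨a, ⟨ha1, ha2⟩, h1, h2, h3⟩ :=
      exists_inverted (p := p) hp2 hi (hVp.to_le inf_le_left) hW ⟨hx, hxP⟩ hxne
    exact ⟨a, ha1, ha2, h1, h2, h3⟩
  have hinvC₀ : ∀ a : G, a ^ p = 1 → a ≠ 1 → i * a * i = a⁻¹ → a ∉ C₀ := by
    intro a hap ha1 hai hac
    rw [hC₀i a hac] at hai
    have h2 : a ^ 2 = 1 := by rw [pow_two]; nth_rw 2 [hai]; exact mul_inv_cancel a
    have hcop : Nat.Coprime p 2 := (Nat.coprime_primes hp.out Nat.prime_two).mpr hp2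
    exact ha1 (orderOf_eq_one_iff.mp (Nat.eq_one_of_dvd_coprimes hcop
      (orderOf_dvd_of_pow_eq_one hap) (orderOf_dvd_of_pow_eq_one h2)))
  have hcyc : IsCyclic C₀ := by
    by_contra hnc
    obtain ⟨A, hAc, hA⟩ := Cfsg.Agent.NoncyclicAbelian.exists_noncyclic_abelian hp2
      (hU.to_le inf_le_left) hnc
    haveI := hAc
    obtain ⟨q, hq, x, hx, y, hy, hxq, hyq, hy1, hxy⟩ := Coprime.exists_pair_of_not_isCyclic A hA
    have hqp : q = p := by
      obtain ⟨k, hk⟩ := IsPGroup.iff_orderOf.mp (hU.to_le inf_le_left) y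
      have h' := orderOf_eq_prime (hp := ⟨hq⟩) hyq hy1
      rw [hk] at h'
      rcases k with - | k
      · rw [pow_zero] at h'; exact absurd h'.symm hq.ne_one
      · exact ((Nat.prime_dvd_prime_iff_eq hp.out hq).mp (h' ▸ dvd_pow_self p k.succ_ne_zero)).symm
    rw [hqp] at hxq hyq
    clear hqp hq
    have hxy' : (x : G) ∉ Subgroup.zpowers (y : G) := by
      rintro ⟨k, hk⟩
      exact hxy ⟨k, Subtype.ext (by simpa using hk)⟩
    set P := Subgroup.zpowers (y : G) ⊔ Subgroup.zpowers (x : G) with hP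
    have hPC : P ≤ C₀ := sup_le (Subgroup.zpowers_le.mpr y.2) (Subgroup.zpowers_le.mpr x.2)
    obtain ⟨a, -, haP, hap, ha1, hai⟩ :=
      hinverted P (hU.to_le (hPC.trans inf_le_left)) (hPC.trans inf_le_right)
    refine not_rank_le_two (p := p) (by simpa using congrArg Subtype.val hyq)
      (by simpa using congrArg Subtype.val hxq) hap ?_ ?_ ?_ (by simpa using hy1) hxy' ?_ hr
    · have hc : (⟨y, hy⟩ : A) * ⟨x, hx⟩ = ⟨x, hx⟩ * ⟨y, hy⟩ := mul_comm' _ _
      exact congrArg (fun u : A => ((u : C₀) : G)) hc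
    · exact Subgroup.mem_centralizer_iff.mp haP _ (Subgroup.mem_sup_left (Subgroup.mem_zpowers _))
    · exact Subgroup.mem_centralizer_iff.mp haP _ (Subgroup.mem_sup_right (Subgroup.mem_zpowers _))
    · exact fun h => hinvC₀ a hap ha1 hai (hPC h)
  -- the derived group centralizes the fixed points
  have hcent : ∀ g ∈ ⁅K, K⁆, ∀ c ∈ C₀, Commute g c := by
    obtain ⟨⟨c₀, hc₀⟩, hgen⟩ := hcyc.exists_generator
    have hconj : ∀ g ∈ K, ∃ m : ℤ, g * c₀ * g⁻¹ = c₀ ^ m := by
      intro g hg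
      have hmem : g * c₀ * g⁻¹ ∈ C₀ := by
        refine Subgroup.mem_inf.mpr ⟨?_, mul_mem (mul_mem hg (Subgroup.mem_inf.mp hc₀).2) (inv_mem hg)⟩
        rw [← hker]
        exact (MonoidHom.normal_ker φ).conj_mem c₀ (hker.symm ▸ (Subgroup.mem_inf.mp hc₀).1) g
      obtain ⟨m, hm⟩ := hgen ⟨_, hmem⟩
      exact ⟨m, (congrArg Subtype.val hm).symm⟩
    have hle : ⁅K, K⁆ ≤ Subgroup.centralizer ({c₀} : Set G) := by
      refine Subgroup.commutator_le.mpr fun a ha b hb => ?_
      suffices key : ∀ a ∈ K, ∀ b ∈ K, a⁻¹ * b⁻¹ * a * b * c₀ = c₀ * (a⁻¹ * b⁻¹ * a * b) by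
        rw [Subgroup.mem_centralizer_singleton_iff, commutatorElement_def]
        simpa using key a⁻¹ (inv_mem ha) b⁻¹ (inv_mem hb)
      clear ha hb a b
      intro a ha b hb
      obtain ⟨m, hm⟩ := hconj a ha
      obtain ⟨n, hn⟩ := hconj b hb
      have e1 : a * b * c₀ * b⁻¹ * a⁻¹ = c₀ ^ (m * n) := by
        rw [show a * b * c₀ * b⁻¹ * a⁻¹ = a * (b * c₀ * b⁻¹) * a⁻¹ by group, hn, ← conj_zpow, hm,
          ← zpow_mul]
      have e2 : b * a * c₀ * a⁻¹ * b⁻¹ = c₀ ^ (m * n) := by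
        rw [show b * a * c₀ * a⁻¹ * b⁻¹ = b * (a * c₀ * a⁻¹) * b⁻¹ by group, hm, ← conj_zpow, hn,
          ← zpow_mul, mul_comm]
      -- transport the equality `e1 = e2`
      have e4 := e1.trans e2.symm
      have e5 : a⁻¹ * b⁻¹ * a * b * c₀ = c₀ * (a⁻¹ * b⁻¹ * a * b) := by
        calc a⁻¹ * b⁻¹ * a * b * c₀
            = a⁻¹ * b⁻¹ * (a * b * c₀ * b⁻¹ * a⁻¹) * (a * b) := by group
          _ = c₀ * (a⁻¹ * b⁻¹ * a * b) := by rw [e4]; group
      exact e5
    intro g hg c hc
    obtain ⟨k, hk⟩ := hgen ⟨c, hc⟩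
    have hk' : c₀ ^ k = c := congrArg Subtype.val hk
    rw [← hk']
    have hgc : Commute g c₀ := Subgroup.mem_centralizer_singleton_iff.mp (hle hg)
    exact hgc.zpow_right k
  -- an element of order `p` of `K` outside `V`
  set y := D' * r * D'⁻¹ * r⁻¹ with hy
  have hyKK : y ∈ ⁅K, K⁆ := mul_mem (mul_mem (mul_mem hD' hr1) (inv_mem hD')) (inv_mem hr1)
  have hφy : φ y = upperEl 3 := by
    rw [hy, map_mul, map_mul, map_mul, map_inv, map_inv, hφD, hφr, dia_conj_upper,
      mul_inv_cancel_right, mul_inv_eq_iff_eq_mul, upper_mul]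
    congr 1
    show (2 : ZMod p) * 2 * 1 = 3 + 1
    ring
  have hyp : y ^ p = 1 := by
    set s := D' * r * D'⁻¹ with hs
    have hc : (r ^ 4)⁻¹ * s ∈ C₀ := by
      refine ⟨(hkU _).mp ?_, hKK (mul_mem (inv_mem (pow_mem hr1 4))
        (mul_mem (mul_mem hD' hr1) (inv_mem hD')))⟩
      rw [map_mul, map_inv, map_pow, hs, map_mul, map_mul, map_inv, hφD, hφr, dia_conj_upper,
        mul_inv_cancel_right, upper_pow, inv_mul_eq_one]
      congr 1
      show ((4 : ℕ) : ZMod p) * 1 = 2 * 2 * 1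
      norm_num
    have hsr : Commute r s := by
      have := ((Commute.refl r).pow_right 4).mul_right (hcent r hr1 _ hc)
      rwa [mul_inv_cancel_left] at this
    have hrp : r ^ p ∈ C₀ := by
      refine ⟨(hkU _).mp ?_, pow_mem (hKK hr1) p⟩
      rw [map_pow, hφr, upper_pow, ZMod.natCast_self, zero_mul, upper_zero]
    rw [hy, (hsr.symm.inv_right).mul_pow, hs, conj_pow, (hcent D' hD' _ hrp).eq,
      mul_inv_cancel_right, inv_pow, mul_inv_cancel]
  have hyV : y ∉ V := fun h => by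
    obtain ⟨v, hv⟩ := (hV y).mp h
    exact upper_not_trans h3ne v (hφy.symm.trans hv)
  by_cases hC : C₀ = ⊥
  swap
  · -- a fixed point gives rank three
    obtain ⟨z, hzC, hzp, hz1⟩ : ∃ z ∈ C₀, z ^ p = 1 ∧ z ≠ 1 := by
      haveI : Nontrivial C₀ := (Subgroup.nontrivial_iff_ne_bot C₀).mpr hC
      obtain ⟨n, hn0, hn⟩ := (hU.to_le inf_le_left : IsPGroup p C₀).nontrivial_iff_card.mp ‹_›
      obtain ⟨⟨z, hz⟩, hz'⟩ := exists_prime_orderOf_dvd_card' (G := C₀) p
        (hn ▸ dvd_pow_self p hn0.ne')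
      rw [Subgroup.orderOf_mk] at hz'
      exact ⟨z, hz, by rw [← hz', pow_orderOf_eq_one], fun h => by
        rw [h, orderOf_one] at hz'; exact hp.out.one_lt.ne hz'⟩
    have hzy : Commute z y := (hcent y hyKK z hzC).symm
    set P := Subgroup.closure ({z, y} : Set G) with hP
    have hPcomm : ∀ u ∈ ({z, y} : Set G), ∀ v ∈ ({z, y} : Set G), u * v = v * u := by
      rintro u (rfl | rfl) v (rfl | rfl)
      exacts [rfl, hzy.eq, hzy.eq.symm, rfl]
    haveI := Subgroup.isMulCommutative_closure hPcomm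
    have hPp : IsPGroup p P := by
      intro u
      refine ⟨1, Subtype.ext ?_⟩
      rw [pow_one, SubgroupClass.coe_pow, OneMemClass.coe_one]
      refine Subgroup.closure_induction (k := ({z, y} : Set G)) (p := fun u _ => u ^ p = 1)
        ?_ (one_pow p) ?_ ?_ u.2
      · rintro u (rfl | rfl) <;> assumption
      · intro a b ha hb h1 h2
        have hc : Commute a b := congrArg Subtype.val (mul_comm' (⟨a, ha⟩ : P) ⟨b, hb⟩)
        rw [hc.mul_pow, h1, h2, one_mul]
      · intro a _ h1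
        rw [inv_pow, h1, inv_one]
    obtain ⟨a, haV, haP, hap, ha1, hai⟩ := hinverted P hPp ((Subgroup.closure_le K).mpr (by
      rintro u (rfl | rfl)
      exacts [hzC.2, hKK hyKK]))
    refine not_rank_le_two (p := p) hzp hap hyp ?_ hzy ?_ hz1 ?_ ?_ hr
    · exact Subgroup.mem_centralizer_iff.mp haP _ (Subgroup.subset_closure (by simp))
    · exact (Subgroup.mem_centralizer_iff.mp haP _ (Subgroup.subset_closure (by simp))).symm
    · exact fun h => hinvC₀ a hap ha1 hai (Subgroup.zpowers_le.mpr hzC h)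
    · exact fun h => hyV (sup_le (Subgroup.zpowers_le.mpr (hC₀V z hzC))
        (Subgroup.zpowers_le.mpr haV) h)
  -- without fixed points `V` is abelian
  have hfpf : ∀ x ∈ V, i * x * i = x → x = 1 := fun x hx h => by
    have hxC : x ∈ C₀ := ⟨hfixU x hx h, (hKmem x).mpr (by
      show x * i = i * x
      nth_rw 1 [← h]
      rw [mul_assoc, hi, mul_one])⟩
    rwa [hC, Subgroup.mem_bot] at hxC
  have hinvV : ∀ x ∈ V, i * x * i = x⁻¹ := by
    let f : V →* V :=
      { toFun := fun x => ⟨i * x * i, hiV x x.2⟩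
        map_one' := Subtype.ext (by simp [hi])
        map_mul' := fun x y => Subtype.ext (by
          show i * (x * y) * i = (i * x * i) * (i * y * i)
          rw [show (i * (x : G) * i) * (i * y * i) = i * x * (i * i) * y * i by group, hi, mul_one]
          group) }
    have hff : MonoidHom.FixedPointFree f := fun x hx =>
      Subtype.ext (hfpf x x.2 (congrArg Subtype.val hx))
    have hf2 : f^[2] = id := funext fun x => Subtype.ext (by
      show i * (i * x * i) * i = x
      rw [show i * (i * (x : G) * i) * i = (i * i) * x * (i * i) by group, hi, one_mul, mul_one])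
    intro x hx
    exact congrArg Subtype.val (congrFun (hff.coe_eq_inv_of_involutive (fun x => congrFun hf2 x))
      (⟨x, hx⟩ : V))
  have hVcomm : ∀ a ∈ V, ∀ b ∈ V, a * b = b * a := by
    intro a ha b hb
    have h1 := hinvV (a * b) (mul_mem ha hb)
    rw [show i * (a * b) * i = (i * a * i) * (i * b * i) by
      rw [show (i * a * i) * (i * b * i) = i * a * (i * i) * b * i by group, hi, mul_one]; group,
      hinvV a ha, hinvV b hb, ← mul_inv_rev] at h1
    exact (inv_injective h1).symm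
  letI : CommGroup V :=
    { (inferInstance : Group V) with mul_comm := fun a b => Subtype.ext (hVcomm a a.2 b b.2) }
  set U' : Subgroup V := U.subgroupOf V
  -- every element of `U` is a `p`-th power in `V`
  have hcardV : Nat.card V = Nat.card U * p ^ 2 := by
    have h1 : (φ.comp V.subtype).range = (transHom (p := p)).range := by
      ext q
      constructor
      · rintro ⟨x, rfl⟩; exact x.2
      · intro hq
        obtain ⟨g, rfl⟩ := hφ q
        exact ⟨⟨g, hq⟩, rfl⟩
    have h2 : Nat.card (transHom (p := p)).range = p ^ 2 := by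
      rw [← Nat.card_congr (MonoidHom.ofInjective (f := transHom (p := p))
        (fun a b h => trans_inj h)).toEquiv, Nat.card_congr Multiplicative.toAdd, Nat.card_fun,
        Nat.card_zmod, Nat.card_fin]
    rw [Subgroup.card_eq_card_quotient_mul_card_subgroup (φ.comp V.subtype).ker,
      Nat.card_congr (QuotientGroup.quotientKerEquivRange (φ.comp V.subtype)).toEquiv, h1, h2,
      mul_comm]
    congr 1
    have : (φ.comp V.subtype).ker = U' := by
      ext x
      rw [MonoidHom.mem_ker, Subgroup.mem_subgroupOf]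
      exact hkU x
    rw [this]
    exact Nat.card_congr (Subgroup.subgroupOfEquivOfLe hUV).toEquiv
  have hUp : ∀ u ∈ U', ∃ x : V, u = x ^ p := by
    set f : V →* V := powMonoidHom p
    have hsub : f.range ≤ U' := by
      rintro _ ⟨x, rfl⟩
      exact Subgroup.mem_subgroupOf.mpr (by simpa [f] using hVexp x x.2)
    have hkle : Nat.card f.ker ≤ p ^ 2 := by
      let B : Subgroup G :=
        { carrier := {g | g ∈ V ∧ g ^ p = 1}
          one_mem' := ⟨one_mem _, one_pow p⟩
          mul_mem' := fun {a b} ha hb => ⟨mul_mem ha.1 hb.1, by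
            rw [(show Commute a b from hVcomm a ha.1 b hb.1).mul_pow, ha.2, hb.2, one_mul]⟩
          inv_mem' := fun {a} ha => ⟨inv_mem ha.1, by rw [inv_pow, ha.2, inv_one]⟩ }
      refine le_trans (Nat.card_le_card_of_injective (fun x : f.ker => (⟨((x : V) : G), (x : V).2,
        congrArg Subtype.val (MonoidHom.mem_ker.mp x.2)⟩ : B))
        (fun a b h => Subtype.ext (Subtype.ext (congrArg Subtype.val h :)))) ?_
      exact hr B ⟨⟨fun a b => Subtype.ext (hVcomm a a.2.1 b b.2.1)⟩⟩ fun a ha => ha.2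
    have h1 := Subgroup.card_eq_card_quotient_mul_card_subgroup f.ker
    rw [Nat.card_congr (QuotientGroup.quotientKerEquivRange f).toEquiv, hcardV,
      ← Nat.card_congr (Subgroup.subgroupOfEquivOfLe hUV).toEquiv] at h1
    have h2 : Nat.card U' ≤ Nat.card f.range := by
      have h3 : Nat.card U' * p ^ 2 ≤ Nat.card f.range * p ^ 2 :=
        h1 ▸ Nat.mul_le_mul_left _ hkle
      exact Nat.le_of_mul_le_mul_right h3 (pow_pos hp.out.pos 2)
    intro u hu
    rw [← Subgroup.eq_of_le_of_card_ge hsub h2] at hu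
    obtain ⟨x, hx⟩ := hu
    exact ⟨x, hx.symm⟩
  -- elements of order `p` lie in `U`
  have homega : ∀ a ∈ V, a ^ p = 1 → a ∈ U := by
    intro a ha hap
    by_contra haU
    obtain ⟨v, hv⟩ := (hV a).mp ha
    have hv0 : v ≠ 0 := fun h => haU ((hkU a).mp (by rw [hv, h, trans_zero]))
    obtain ⟨u, hu, hup, hu1⟩ : ∃ u ∈ U, u ^ p = 1 ∧ u ≠ 1 := by
      haveI : Nontrivial U := (Subgroup.nontrivial_iff_ne_bot U).mpr hU1
      obtain ⟨n, hn0, hn⟩ := hU.nontrivial_iff_card.mp ‹_›
      obtain ⟨⟨z, hz⟩, hz'⟩ := exists_prime_orderOf_dvd_card' (G := U) p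
        (hn ▸ dvd_pow_self p hn0.ne')
      rw [Subgroup.orderOf_mk] at hz'
      exact ⟨z, hz, by rw [← hz', pow_orderOf_eq_one], fun h => by
        rw [h, orderOf_one] at hz'; exact hp.out.one_lt.ne hz'⟩
    obtain ⟨q, w, hw, hwv⟩ : ∃ q : ↥(Cfsg.qd p), ∃ w : Fin 2 → ZMod p,
        q * trans v * q⁻¹ = trans w ∧ ∀ k : ℕ, w ≠ (k : ZMod p) • v := by
      by_cases h1 : v 1 = 0
      · refine ⟨lower 1, _, lower_conj_trans 1 v, fun k h => hv0 ?_⟩
        have e1 := congrFun h 1
        simp [h1] at e1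
        funext j
        fin_cases j <;> simp [e1, h1]
      · refine ⟨upperEl 1, _, upper_conj_trans 1 v, fun k h => h1 ?_⟩
        have e0 := congrFun h 0
        have e1 := congrFun h 1
        simp at e0 e1
        rcases eq_or_ne (k : ZMod p) 1 with hk1 | hk1
        · rw [hk1, one_mul] at e0; exact add_left_cancel (e0.trans (add_zero _).symm)
        · exact (mul_left_eq_self₀.mp e1.symm).resolve_left hk1
    obtain ⟨g, rfl⟩ := hφ q
    set a' := g * a * g⁻¹
    have ha'V : a' ∈ V := hVn.conj_mem a ha g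
    refine not_rank_le_two (p := p) hup hap (by rw [conj_pow, hap, mul_one, mul_inv_cancel])
      (hVcomm u (hUV u hu) a ha) (hVcomm u (hUV u hu) a' ha'V) (hVcomm a ha a' ha'V) hu1
      (fun h => haU (Subgroup.zpowers_le.mpr hu h)) ?_ hr
    intro h
    have h' : φ a' ∈ Subgroup.zpowers (φ a) := by
      refine (?_ : Subgroup.zpowers u ⊔ Subgroup.zpowers a ≤ (Subgroup.zpowers (φ a)).comap φ) h
      refine sup_le (Subgroup.zpowers_le.mpr ?_) (Subgroup.zpowers_le.mpr ?_)
      · rw [Subgroup.mem_comap, (hkU u).mpr hu]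
        exact one_mem _
      · exact Subgroup.mem_zpowers _
    rw [map_mul, map_mul, map_inv, hv, hw, ← mem_powers_iff_mem_zpowers] at h'
    obtain ⟨k, hk⟩ := h'
    exact hwv k (trans_inj (hk.symm.trans (trans_pow v k)))
  have hinj : ∀ x v : V, x ^ p = v ^ (p * p) → x ∈ U' := by
    intro x v h
    have hvp : v ^ p ∈ U' := Subgroup.mem_subgroupOf.mpr (by simpa using hVexp v v.2)
    have h2 : ((x * (v ^ p)⁻¹ : V) : G) ∈ U := by
      refine homega _ (x * (v ^ p)⁻¹ : V).2 ?_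
      rw [← SubgroupClass.coe_pow, mul_pow, inv_pow, ← pow_mul, ← h, mul_inv_cancel]
      rfl
    have h3 := mul_mem (show x * (v ^ p)⁻¹ ∈ U' from Subgroup.mem_subgroupOf.mpr h2) hvp
    rwa [inv_mul_cancel_right] at h3
  -- the action of `y`
  let f : V →* V :=
    { toFun := fun x => ⟨y * x * y⁻¹, hVn.conj_mem x x.2 y⟩
      map_one' := Subtype.ext (by simp)
      map_mul' := fun a b => Subtype.ext (by
        show y * (a * b) * y⁻¹ = (y * a * y⁻¹) * (y * b * y⁻¹)
        group) }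
  have hfv : ∀ x : V, ∀ v, φ x = trans v → φ ((f x * x⁻¹ : V) : G) = trans ![3 * v 1, 0] := by
    intro x v hv
    show φ (y * x * y⁻¹ * (x : G)⁻¹) = _
    rw [map_mul, map_mul, map_mul, map_inv, map_inv, hφy, hv, upper_conj_trans,
      mul_inv_eq_iff_eq_mul, trans_mul]
    congr 1
    funext j
    fin_cases j <;> simp [add_comm]
  have hd2 : ∀ x : V, f (f x * x⁻¹) * (f x * x⁻¹)⁻¹ ∈ U' := by
    intro x
    obtain ⟨v, hv⟩ := (hV x).mp x.2
    refine Subgroup.mem_subgroupOf.mpr ((hkU _).mp ?_)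
    rw [hfv _ _ (hfv x v hv), ← trans_zero]
    congr 1
    funext j
    fin_cases j <;> simp
  have hfp : ∀ x, f^[p] x = x := by
    intro x
    have : ∀ k : ℕ, ((f^[k] x : V) : G) = y ^ k * x * (y ^ k)⁻¹ := by
      intro k
      induction k with
      | zero => simp
      | succ k ih =>
        rw [Function.iterate_succ_apply']
        show y * ((f^[k] x : V) : G) * y⁻¹ = _
        rw [ih, pow_succ']
        group
    exact Subtype.ext (by rw [this, hyp, inv_one, one_mul, mul_one])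
  obtain ⟨x, hx⟩ := hφ (trans ![0, 1])
  have hxV : x ∈ V := (hV x).mpr ⟨_, hx⟩
  have h := (hkU _).mpr (Subgroup.mem_subgroupOf.mp
    (diff_mem_of_period hp3 U' f hfp hUp hinj hd2 ⟨x, hxV⟩))
  rw [hfv ⟨x, hxV⟩ _ hx, ← trans_zero] at h
  have := congrFun (trans_inj h) 0
  simp at this
  exact h3ne this

end CfsgLib.Qd
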