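import Mathlib
import Cfsg.Agent.Lib.Qd.Local
import Cfsg.Agent.Lib.Qd.Stable
import Cfsg.Agent.Lib.Conjugacy.KInfFusion
import Cfsg.Agent.Lib.Conjugacy.KInfComplement
import Cfsg.Agent.Lib.Fusion.FunctorControl
import Cfsg.Agent.Lib.Fusion.RadicalNormalizer
import Cfsg.Agent.Lib.Fusion.Group

/-!
If no automizer of a `p`-subgroup involves `SL(2, p)`, the fusion system of the group has the centric
subgroup `K_∞(S)` as a normal subgroup, so there is a least centric radical subgroup.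
-/

set_option autoImplicit false
set_option linter.style.haveILetI false

namespace CfsgLib.Qd

open Cfsg
open Cfsg.FusionSystem hiding inv_mem
open scoped MatrixGroups

universe u

variable {p : ℕ} [hp : Fact p.Prime]

/-- `SL(2, p)` has no non-trivial normal `p`-subgroup. -/
theorem eq_bot_of_normal_sl2 (hp2 : p ≠ 2) {N : Subgroup SL(2, ZMod p)} [hN : N.Normal]
    (hNp : IsPGroup p N) : N = ⊥ := by
  rw [Subgroup.eq_bot_iff_forall]
  intro x hx
  obtain ⟨S, hS⟩ := hNp.exists_le_sylow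
  obtain ⟨g, hg⟩ := SL2.exists_conj_upperSL (F := ZMod p) p S
  obtain ⟨b, ⟨b, rfl⟩, hb⟩ := (hg ▸ hS hx : x ∈ _)
  by_contra hx1
  have hb1 : SL2.up (F := ZMod p) b.toAdd ∈ N := by
    have := hN.conj_mem x hx g⁻¹
    rw [← hb] at this
    simpa [SL2.up, mul_assoc] using this
  have hs : b.toAdd ≠ 0 := fun h => hx1 (by
    rw [← hb, show b = 1 from h, map_one, map_one])
  obtain ⟨n, hn⟩ := ZMod.natCast_zmod_surjective (b.toAdd⁻¹)
  have h1 : SL2.up (1 : ZMod p) = SL2.up b.toAdd ^ n := by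
    rw [SL2.up, SL2.up, ← map_pow, ← ofAdd_nsmul, nsmul_eq_mul, hn, inv_mul_cancel₀ hs]
  have htop := eq_top_of_normal (K := N) (h1 ▸ N.pow_mem hb1 n)
  subst htop
  exact not_isPGroup_sl2 hp2 (hNp.of_equiv Subgroup.topEquiv)

/-- Involvement of `SL(2, p)` descends along a map with `p`-group kernel. -/
theorem involves_sl2_descend (hp2 : p ≠ 2) {L A : Type*} [Group L] [Group A] (ρ : L →* A)
    (hker : IsPGroup p ρ.ker) (h : Cfsg.Involves SL(2, ZMod p) L) :
    Cfsg.Involves SL(2, ZMod p) A := by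
  obtain ⟨K, ψ, hψ⟩ := Offender.exists_hom_of_involves h
  set ρK : K →* (K.map ρ : Subgroup A) := ρ.subgroupMap K
  have hρK : Function.Surjective ρK := ρ.subgroupMap_surjective K
  have hk : IsPGroup p ρK.ker := by
    refine hker.of_injective
      ((K.subtype.comp ρK.ker.subtype).codRestrict ρ.ker fun x => ?_) fun a b hab => ?_
    · exact congrArg Subtype.val (MonoidHom.mem_ker.1 x.2)
    · exact Subtype.ext (Subtype.ext (congrArg (fun z : ρ.ker => (z : L)) hab))
  haveI : (ρK.ker.map ψ).Normal := Subgroup.Normal.map inferInstance ψ hψ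
  have hle : ρK.ker ≤ ψ.ker := (Subgroup.map_eq_bot_iff _).1 (eq_bot_of_normal_sl2 hp2 (hk.map ψ))
  refine Offender.involves_of_hom (ρK.liftOfSurjective hρK ⟨ψ, hle⟩) fun y => ?_
  obtain ⟨x, rfl⟩ := hψ y
  exact ⟨ρK x, ρK.liftOfRightInverse_comp_apply _ _ ⟨ψ, hle⟩ x⟩

/-- The automizers of `p`-subgroups do not involve `SL(2, p)`. -/
def AutFree (p : ℕ) (G : Type u) [Group G] : Prop :=
  ∀ Q : Subgroup G, IsPGroup p ↥Q → ¬ ∃ (H K : Subgroup G) (_ : (K.subgroupOf H).Normal),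
      Subgroup.centralizer (Q : Set G) ≤ K ∧ K ≤ H ∧ H ≤ Subgroup.normalizer (Q : Set G) ∧
      Nonempty ((↥H ⧸ K.subgroupOf H) ≃* Matrix.SpecialLinearGroup (Fin 2) (ZMod p))

variable {G : Type u} [Group G] [Finite G]

/-- A section of `Aut_G(Q)` gives the forbidden configuration. -/
theorem not_involves_autInducedBy (hfree : AutFree p G) {Q : Subgroup G} (hQ : IsPGroup p Q) :
    ¬ Cfsg.Involves SL(2, ZMod p) ↥(autInducedBy ⊤ Q) := by
  intro h
  obtain ⟨B, ψ, hψ⟩ := Offender.exists_hom_of_involves h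
  set N := Subgroup.normalizer (Q : Set G) with hN
  have hmem : ∀ n : N, Q.normalizerMonoidHom n ∈ autInducedBy ⊤ Q := fun n => by
    rw [Fusion.autInducedBy_eq_map]
    exact ⟨n, Subgroup.mem_subgroupOf.2 (Subgroup.mem_top _), rfl⟩
  let θ : N →* ↥(autInducedBy ⊤ Q) := Q.normalizerMonoidHom.codRestrict _ hmem
  have hθ : Function.Surjective θ := fun a => by
    obtain ⟨n, -, hn⟩ := (Fusion.autInducedBy_eq_map ⊤ Q ▸ a.2 :
      (a : MulAut Q) ∈ (((⊤ : Subgroup G).subgroupOf N).map Q.normalizerMonoidHom))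
    exact ⟨n, Subtype.ext hn⟩
  set H₀ : Subgroup N := B.comap θ with hH₀
  let φ : H₀ →* SL(2, ZMod p) := ψ.comp (θ.subgroupComap B)
  have hφ : Function.Surjective φ := hψ.comp (θ.subgroupComap_surjective_of_surjective B hθ)
  set H := H₀.map N.subtype with hH
  let e : H₀ ≃* H := H₀.equivMapOfInjective N.subtype N.subtype_injective
  let φ' : H →* SL(2, ZMod p) := φ.comp e.symm.toMonoidHom
  have hsub : (φ'.ker.map H.subtype).subgroupOf H = φ'.ker :=
    Subgroup.comap_map_eq_self_of_injective H.subtype_injective _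
  haveI hn : ((φ'.ker.map H.subtype).subgroupOf H).Normal := by rw [hsub]; infer_instance
  refine hfree Q hQ ⟨H, φ'.ker.map H.subtype, hn, fun c hc => ?_, Subgroup.map_subtype_le _,
    Subgroup.map_subtype_le _,
    ⟨(QuotientGroup.quotientMulEquivOfEq hsub).trans
      (QuotientGroup.quotientKerEquivOfSurjective φ' (hφ.comp e.symm.surjective))⟩⟩
  have hcN : c ∈ N := Subgroup.centralizer_le_normalizer _ hc
  have h1 : θ ⟨c, hcN⟩ = 1 := Subtype.ext (by
    show Q.normalizerMonoidHom ⟨c, hcN⟩ = 1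
    rw [← MonoidHom.mem_ker, Subgroup.normalizerMonoidHom_ker, Subgroup.mem_subgroupOf]
    exact hc)
  have hc0 : (⟨c, hcN⟩ : N) ∈ H₀ := by rw [hH₀, Subgroup.mem_comap, h1]; exact one_mem _
  refine ⟨e ⟨_, hc0⟩, ?_, rfl⟩
  show φ (e.symm (e ⟨_, hc0⟩)) = 1
  rw [e.symm_apply_apply]
  show ψ (θ.subgroupComap B ⟨_, hc0⟩) = 1
  rw [show θ.subgroupComap B ⟨_, hc0⟩ = 1 from Subtype.ext h1, map_one]

/-- The fusion system is free of `SL(2, p)`. -/
theorem isSectionFree_sl2 (hp2 : p ≠ 2) (hfree : AutFree p G) (S : Sylow p G) :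
    (groupFusionSystem (S : Subgroup G)).IsSectionFree p SL(2, ZMod p) := by
  intro Q hQn hQc N hN L _ ι hL hinv
  have h := Fusion.centricNormal_normalizerSystem S.isPGroup' (Fusion.isSaturated_group S) hQn hQc hN
  haveI := Fusion.finite_of_le (S := (S : Subgroup G))
    (P := normalizerIn (S : Subgroup G) Q) inf_le_left
  haveI : Finite L := hL.1
  obtain ⟨ρ, -, -, -, hker⟩ := h.exists_action hL
  have hk : IsPGroup p ρ.ker := by
    refine (((h.hS.to_subgroup h.conjQ.ker).map ι)).to_le (fun g hg => ?_)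
    exact hker g hg
  have h1 := involves_sl2_descend hp2 ρ hk hinv
  rw [Fusion.autGroup_normalizerSystem hQn.1 hN, Fusion.autGroup_groupFusionSystem S hQn.1] at h1
  exact not_involves_autInducedBy hfree (S.isPGroup'.to_le hQn.1) h1

theorem kInfLower_normal_of_sl2Free (hp2 : p ≠ 2) (L : Type u) [Group L] [Finite L]
    (T : Sylow p L)
    (hc : Subgroup.centralizer ((Cfsg.pCore p L : Subgroup L) : Set L) ≤ Cfsg.pCore p L)
    (hfree : ¬ Cfsg.Involves SL(2, ZMod p) L) :
    ((Cfsg.kInfLower ↥(T : Subgroup L)).map (T : Subgroup L).subtype).Normal := by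
  have hqd : ¬ Cfsg.Involves ↥(Cfsg.qd p) L := fun h => hfree (involves_sl2_of_involves_qd h)
  exact (Conjugacy.kInf_normal_of_pStable hc
    (fun N _ => isNormalizerPStable_of_qdFree hp2 (not_involves_quotient N hqd)) T).1

/-- `K_∞(S)` is normal in the fusion system. -/
theorem isNormal_kInfLower (hp2 : p ≠ 2) (hfree : AutFree p G) (S : Sylow p G) :
    (groupFusionSystem (S : Subgroup G)).IsNormal
      (Fusion.functorOf Cfsg.kInfLower (S : Subgroup G)) :=
  Fusion.isNormal_functorOf_of_sectionFree Cfsg.kInfLower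
    (fun Q _ _ hQ hne => (Conjugacy.isCharPFunctor_kInfLower p).1 Q hQ hne)
    (fun _ _ _ _ _ _ φ => (Conjugacy.kInf_equiv φ).1)
    (fun L _ _ T hc hL => kInfLower_normal_of_sl2Free hp2 L T hc hL)
    S.isPGroup' (Fusion.isSaturated_group S) (isSectionFree_sl2 hp2 hfree S)

/-- `N(Q)` controls fusion in `S`. -/
def CtrlNorm (S : Sylow p G) (Q : Subgroup G) : Prop :=
  Q ≤ (S : Subgroup G) ∧ (S : Subgroup G) ≤ Subgroup.normalizer (Q : Set G) ∧
    ∀ A : Subgroup G, A ≤ (S : Subgroup G) → ∀ g : G,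
      A.map (MulAut.conj g).toMonoidHom ≤ (S : Subgroup G) →
        ∃ h ∈ Subgroup.normalizer (Q : Set G), ∀ a ∈ A, g * a * g⁻¹ = h * a * h⁻¹

theorem ctrlNorm_of_isNormal (S : Sylow p G) {W : Subgroup G}
    (hW : (groupFusionSystem (S : Subgroup G)).IsNormal W) : CtrlNorm S W := by
  refine ⟨hW.1, Fusion.le_normalizer_of_isNormal hW, fun A hA g hg => ?_⟩
  obtain ⟨f, hf, hfA, hfW⟩ := (Fusion.isNormal_iff.1 hW).2 A _
    (Fusion.isMap_group_of_conj g hA fun x hx => hg ⟨x, hx, rfl⟩)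
  obtain ⟨-, -, h, hh⟩ := Fusion.isMap_group_iff.1 hf
  refine ⟨h, Subgroup.mem_normalizer_fintype fun w hw => ?_, fun a ha => ?_⟩
  · rw [← hh w (Subgroup.mem_sup_right hw)]
    exact hfW.subset ⟨w, hw, rfl⟩
  · rw [← hh a (Subgroup.mem_sup_left ha)]
    exact (hfA a ha).symm

/-- Conditions on `X` in the radical clause. -/
def IsRad (p : ℕ) (Q : Subgroup G) : Prop :=
  ∀ X : Subgroup G, X ≤ Subgroup.normalizer (Q : Set G) →
    (∀ n ∈ Subgroup.normalizer (Q : Set G), X.map (MulAut.conj n).toMonoidHom = X) →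
    Q ⊔ Subgroup.centralizer (Q : Set G) ≤ X →
    (∃ k : ℕ, (Q ⊔ Subgroup.centralizer (Q : Set G)).relIndex X = p ^ k) →
    X = Q ⊔ Subgroup.centralizer (Q : Set G)

/-- An element of `S` that equals an element of `bK` is `b`. -/
theorem eq_of_mul_mem {K S : Subgroup G} (hS : IsPGroup p S) (hK : (Nat.card K).Coprime p)
    {x : G} (hxS : x ∈ S) (hxK : x ∈ K) : x = 1 := by
  obtain ⟨k, hk⟩ := hS ⟨x, hxS⟩
  exact orderOf_eq_one_iff.1 (Nat.eq_one_of_dvd_coprimes
    ((hK.coprime_dvd_left (by simpa using orderOf_dvd_natCard (⟨x, hxK⟩ : K))).pow_right k)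
    dvd_rfl (orderOf_dvd_of_pow_eq_one (congrArg Subtype.val hk : x ^ p ^ k = 1)))

/-- The `p'`-part of a centralizer of a centric normal subgroup. -/
theorem exists_core (S : Sylow p G) {Q : Subgroup G}
    (hSN : (S : Subgroup G) ≤ Subgroup.normalizer (Q : Set G))
    (hc : (S : Subgroup G) ⊓ Subgroup.centralizer (Q : Set G) ≤ Q) :
    ∃ K : Subgroup G, Subgroup.normalizer (Q : Set G) ≤ Subgroup.normalizer (K : Set G) ∧
      K ≤ Subgroup.centralizer (Q : Set G) ∧ (Nat.card K).Coprime p ∧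
      Subgroup.centralizer (Q : Set G) ≤ Q ⊔ K := by
  set C := Subgroup.centralizer (Q : Set G) with hC
  have hCN : Subgroup.normalizer (Q : Set G) ≤ Subgroup.normalizer (C : Set G) :=
    Coprime.le_normalizer_centralizer le_rfl
  obtain ⟨T, hT⟩ := ((S.isPGroup'.to_le (inf_le_left : (S : Subgroup G) ⊓ C ≤ S)).comap_of_injective
    C.subtype C.subtype_injective).exists_le_sylow
  set M := Subgroup.normalizer (Q : Set G) with hM
  have hCM : C ≤ M := Subgroup.centralizer_le_normalizer _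
  haveI : (C.subgroupOf M).Normal := Subgroup.normal_subgroupOf_of_le_normalizer hCN
  -- the Sylow subgroup of `C` is central
  have hTQ : (T : Subgroup C).map C.subtype ≤ Q := by
    obtain ⟨y, hy, hyS⟩ := Conjugacy.exists_cj_le S hSN
      ((Subgroup.map_subtype_le (T : Subgroup C)).trans hCM) (T.2.map C.subtype)
    intro t ht
    have h1 : y * t * y⁻¹ ∈ (S : Subgroup G) ⊓ C :=
      ⟨hyS ⟨t, ht, rfl⟩,
        (Subgroup.mem_normalizer_iff.1 (hCN hy) t).1 (Subgroup.map_subtype_le _ ht)⟩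
    exact (Subgroup.mem_normalizer_iff.1 hy t).2 (hc h1)
  have hnpc : Cfsg.HasNormalPComplement p C :=
    Transfer.hasNormalPComplement_of_normalizer_le_centralizer T fun c _ t ht =>
      Subtype.ext (c.2 _ (hTQ (Subgroup.mem_map_of_mem _ ht)))
  refine ⟨(Cfsg.pResidual p C).map C.subtype, fun n hn => ?_, Subgroup.map_subtype_le _, ?_, ?_⟩
  · have key : ∀ n ∈ M, ∀ k ∈ (Cfsg.pResidual p C).map C.subtype,
        n * k * n⁻¹ ∈ (Cfsg.pResidual p C).map C.subtype := by
      intro n hn k hk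
      obtain ⟨c, hc', rfl⟩ := hk
      have hmem : ∀ x : C, n * (x : G) * n⁻¹ ∈ C := fun x =>
        (Subgroup.mem_normalizer_iff.1 (hCN hn) x).1 x.2
      let f : C →* C := ((MulAut.conj n).toMonoidHom.comp C.subtype).codRestrict C hmem
      exact ⟨f c, Transfer.map_pResidual_le f (Subgroup.mem_map_of_mem _ hc'), rfl⟩
    exact Subgroup.mem_normalizer_iff.2 fun k => ⟨key n hn k, fun h => by
      simpa [mul_assoc] using key n⁻¹ (inv_mem hn) _ h⟩
  · rw [Subgroup.card_map_of_injective C.subtype_injective]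
    exact (hp.out.coprime_iff_not_dvd.mpr (Transfer.hasNormalPComplement_iff_pResidual.mp hnpc)).symm
  · intro c hc'
    have h1 : (⟨c, hc'⟩ : C) ∈ (T : Subgroup C) ⊔ Cfsg.pResidual p C :=
      Transfer.sylow_sup_pResidual T ▸ Subgroup.mem_top _
    have h2 : c ∈ ((T : Subgroup C) ⊔ Cfsg.pResidual p C).map C.subtype := ⟨_, h1, rfl⟩
    rw [Subgroup.map_sup] at h2
    exact sup_le_sup_right hTQ _ h2

/-- The subgroup `S ∩ X` again controls fusion. -/
theorem ctrlNorm_inf (S : Sylow p G) {Q X : Subgroup G} (hQ : CtrlNorm S Q)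
    (hc : (S : Subgroup G) ⊓ Subgroup.centralizer (Q : Set G) ≤ Q)
    (hXN : X ≤ Subgroup.normalizer (Q : Set G))
    (hXn : ∀ n ∈ Subgroup.normalizer (Q : Set G), X.map (MulAut.conj n).toMonoidHom = X)
    (hQX : Q ⊔ Subgroup.centralizer (Q : Set G) ≤ X)
    (hk : ∃ k : ℕ, (Q ⊔ Subgroup.centralizer (Q : Set G)).relIndex X = p ^ k) :
    CtrlNorm S ((S : Subgroup G) ⊓ X) ∧
      X = ((S : Subgroup G) ⊓ X) ⊔ (Q ⊔ Subgroup.centralizer (Q : Set G)) := by
  set M := Subgroup.normalizer (Q : Set G) with hM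
  obtain ⟨K, hKM, hKC, hKp, hCK⟩ := exists_core S hQ.2.1 hc
  set Q₁ := (S : Subgroup G) ⊓ X with hQ₁
  have hXM : M ≤ Subgroup.normalizer (X : Set G) := fun n hn =>
    Subgroup.mem_normalizer_iff_map_conj_eq.2 (hXn n hn)
  haveI : (X.subgroupOf M).Normal := Subgroup.normal_subgroupOf_of_le_normalizer hXM
  -- Sylow subgroups of `X`
  have hQ₁max : ∀ Y : Subgroup G, Y ≤ X → IsPGroup p Y → Nat.card Y ≤ Nat.card Q₁ := by
    intro Y hY hYp
    obtain ⟨y, hy, hyS⟩ := Conjugacy.exists_cj_le S hQ.2.1 (hY.trans hXN) hYp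
    rw [← Conjugacy.card_cj y Y]
    exact Subgroup.card_le_of_le (le_inf hyS
      ((Conjugacy.cj_mono y hY).trans (hXn y hy).le))
  obtain ⟨T, hT⟩ := ((S.isPGroup'.to_le (inf_le_left : Q₁ ≤ S)).comap_of_injective
    X.subtype X.subtype_injective).exists_le_sylow
  have hTeq : (T : Subgroup X).map X.subtype = Q₁ :=
    (Subgroup.eq_of_le_of_card_ge (show Q₁ ≤ (T : Subgroup X).map X.subtype from
      fun x hx => ⟨⟨x, hx.2⟩, hT hx, rfl⟩)
      (hQ₁max _ (Subgroup.map_subtype_le _) (T.2.map _))).symm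
  -- `X = Q₁ (Q C(Q))`
  have hXeq : X = Q₁ ⊔ (Q ⊔ Subgroup.centralizer (Q : Set G)) := by
    refine le_antisymm ?_ (sup_le inf_le_right hQX)
    set U := Q ⊔ Subgroup.centralizer (Q : Set G) with hU
    have hUn : M ≤ Subgroup.normalizer (U : Set G) := by
      intro n hn
      rw [hU, Subgroup.mem_normalizer_iff_map_conj_eq, Subgroup.map_sup,
        Subgroup.mem_normalizer_iff_map_conj_eq.1 hn,
        Subgroup.mem_normalizer_iff_map_conj_eq.1 (Coprime.le_normalizer_centralizer le_rfl hn)]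
    haveI : (U.subgroupOf X).Normal := Subgroup.normal_subgroupOf_of_le_normalizer (hXN.trans hUn)
    obtain ⟨k, hk⟩ := hk
    have h1 := Transfer.sylow_sup_eq_top_of_isPGroup_quotient T (U.subgroupOf X)
      (IsPGroup.of_card (n := k) hk)
    have h2 := congrArg (Subgroup.map X.subtype) h1
    rw [Subgroup.map_sup, hTeq, Subgroup.subgroupOf_map_subtype, ← MonoidHom.range_eq_map,
      Subgroup.range_subtype] at h2
    exact h2.ge.trans (sup_le_sup_left inf_le_left _)
  refine ⟨⟨inf_le_left, fun s hs => ?_, fun A hA g hg => ?_⟩, hXeq⟩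
  · exact Coprime.le_normalizer_inf_of_le Subgroup.le_normalizer (hQ.2.1.trans hXM) hs
  obtain ⟨h, hh, hag⟩ := hQ.2.2 A hA g hg
  -- move `h` into `N(Q₁)` modulo `K`
  have hQQ₁ : Q ≤ Q₁ := le_inf hQ.1 (le_sup_left.trans hQX)
  obtain ⟨o, ho, hoh⟩ : ∃ o ∈ K, o * h ∈ Subgroup.normalizer (Q₁ : Set G) := by
    have hle : Conjugacy.cj h Q₁ ≤ X := (Conjugacy.cj_mono h inf_le_right).trans (hXn h hh).le
    obtain ⟨T', hT'⟩ := (((S.isPGroup'.to_le (inf_le_left : Q₁ ≤ S)).map
      (MulAut.conj h).toMonoidHom).comap_of_injective X.subtype X.subtype_injective).exists_le_sylow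
    obtain ⟨y, hy⟩ := MulAction.exists_smul_eq X T' T
    have hyQ : Conjugacy.cj ((y : G) * h) Q₁ ≤ Q₁ := by
      rw [← Conjugacy.cj_cj]
      rintro _ ⟨x, hx, rfl⟩
      rw [← hTeq, ← hy]
      exact ⟨y * ⟨x, hle hx⟩ * y⁻¹, ⟨⟨x, hle hx⟩, hT' hx, rfl⟩, rfl⟩
    have hyN : (y : G) * h ∈ Subgroup.normalizer (Q₁ : Set G) :=
      Subgroup.mem_normalizer_fintype fun x hx => hyQ ⟨x, hx, rfl⟩
    have hy' : (y : G) ∈ Q₁ ⊔ K := by
      refine (hXeq.le.trans (sup_le le_sup_left (sup_le (hQQ₁.trans le_sup_left) ?_))) y.2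
      exact hCK.trans (sup_le (hQQ₁.trans le_sup_left) le_sup_right)
    rw [← SetLike.mem_coe, Subgroup.coe_mul_of_left_le_normalizer_right Q₁ K
      ((inf_le_left.trans hQ.2.1).trans hKM)] at hy'
    obtain ⟨q, hq, o, ho, hqo⟩ := Set.mem_mul.1 hy'
    refine ⟨o, ho, ?_⟩
    rw [show o * h = q⁻¹ * ((y : G) * h) by rw [← hqo]; group]
    exact mul_mem (inv_mem (Subgroup.le_normalizer hq)) hyN
  set m := o * h with hm
  set B := Conjugacy.cj g A with hB
  have hBS : B ≤ (S : Subgroup G) := hg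
  have hSQ₁ : (S : Subgroup G) ≤ Subgroup.normalizer (Q₁ : Set G) := fun s hs =>
    Coprime.le_normalizer_inf_of_le Subgroup.le_normalizer (hQ.2.1.trans hXM) hs
  have hSK : (S : Subgroup G) ≤ Subgroup.normalizer (K : Set G) := hQ.2.1.trans hKM
  set Y := (B ⊔ K) ⊓ Subgroup.normalizer (Q₁ : Set G) with hY
  have hBY : B ≤ Y := le_inf le_sup_left (hBS.trans hSQ₁)
  have hBp : IsPGroup p B := S.isPGroup'.to_le hBS
  -- `B` is a Sylow subgroup of `Y`
  have hBmax : ∀ Z : Subgroup G, Z ≤ B ⊔ K → IsPGroup p Z → Nat.card Z ≤ Nat.card B := by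
    intro Z hZ hZp
    have hdec : ∀ z : Z, ∃ b : B, ∃ k ∈ K, (b : G) * k = z := fun z => by
      have h1 := hZ z.2
      rw [← SetLike.mem_coe, Subgroup.coe_mul_of_left_le_normalizer_right B K (hBS.trans hSK)] at h1
      obtain ⟨b, hb, k, hk, e⟩ := Set.mem_mul.1 h1
      exact ⟨⟨b, hb⟩, k, hk, e⟩
    choose bf kf hkf hef using hdec
    refine Nat.card_le_card_of_injective bf fun z w e => ?_
    have h1 : (z : G)⁻¹ * w ∈ K := by
      rw [← hef z, ← hef w, e, show ((bf w : G) * kf z)⁻¹ * ((bf w : G) * kf w)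
        = (kf z)⁻¹ * kf w by group]
      exact mul_mem (inv_mem (hkf z)) (hkf w)
    exact Subtype.ext (inv_mul_eq_one.1 (eq_of_mul_mem hZp hKp (mul_mem (inv_mem z.2) w.2) h1))
  obtain ⟨TB, hTB⟩ := (hBp.comap_of_injective Y.subtype Y.subtype_injective).exists_le_sylow
  have hTBeq : (TB : Subgroup Y).map Y.subtype = B :=
    (Subgroup.eq_of_le_of_card_ge (show B ≤ (TB : Subgroup Y).map Y.subtype from
      fun x hx => ⟨⟨x, hBY hx⟩, hTB hx, rfl⟩)
      (hBmax _ ((Subgroup.map_subtype_le _).trans inf_le_left) (TB.2.map _))).symm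
  have hmA : Conjugacy.cj m A ≤ Y := by
    rintro _ ⟨a, ha, rfl⟩
    simp only [MulEquiv.coe_toMonoidHom, MulAut.conj_apply]
    refine Subgroup.mem_inf.mpr ⟨?_, mul_mem (mul_mem hoh (hSQ₁ (hA ha))) (inv_mem hoh)⟩
    rw [hm, show o * h * a * (o * h)⁻¹ = o * (h * a * h⁻¹) * o⁻¹ by group, ← hag a ha]
    exact mul_mem (mul_mem (Subgroup.mem_sup_right ho)
      (Subgroup.mem_sup_left (Conjugacy.conj_mem_cj ha))) (Subgroup.mem_sup_right (inv_mem ho))
  obtain ⟨TA, hTA⟩ := (((S.isPGroup'.to_le hA).map (MulAut.conj m).toMonoidHom).comap_of_injective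
    Y.subtype Y.subtype_injective).exists_le_sylow
  obtain ⟨y, hy⟩ := MulAction.exists_smul_eq Y TA TB
  have hy1 : (y : G) ∈ B ⊔ K := y.2.1
  rw [← SetLike.mem_coe, Subgroup.coe_mul_of_left_le_normalizer_right B K (hBS.trans hSK)] at hy1
  obtain ⟨b, hb, k, hk', hbk⟩ := Set.mem_mul.1 hy1
  refine ⟨k * m, mul_mem ?_ hoh, fun a ha => ?_⟩
  · rw [show k = b⁻¹ * (y : G) by rw [← hbk]; group]
    exact mul_mem (inv_mem (hSQ₁ (hBS hb))) y.2.2
  · have h1 : (y : G) * (m * a * m⁻¹) * (y : G)⁻¹ ∈ B := by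
      rw [← hTBeq, ← hy]
      exact ⟨y * ⟨_, hmA (Conjugacy.conj_mem_cj ha)⟩ * y⁻¹,
        ⟨⟨_, hmA (Conjugacy.conj_mem_cj ha)⟩, hTA (Conjugacy.conj_mem_cj ha), rfl⟩, rfl⟩
    have h2 : k * m * a * (k * m)⁻¹ ∈ B := by
      rw [show k * m * a * (k * m)⁻¹ = b⁻¹ * ((y : G) * (m * a * m⁻¹) * (y : G)⁻¹) * b by
        rw [← hbk]; group]
      exact mul_mem (mul_mem (inv_mem hb) h1) hb
    set c := g * a * g⁻¹ with hc'
    have hcB : c ∈ B := Conjugacy.conj_mem_cj ha
    have hko : k * o ∈ K := mul_mem hk' ho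
    have e : k * m * a * (k * m)⁻¹ = (k * o) * c * (k * o)⁻¹ := by
      rw [hc', hag a ha, hm]; group
    rw [e] at h2 ⊢
    have h3 : c⁻¹ * (k * o * c * (k * o)⁻¹) ∈ K := by
      rw [show c⁻¹ * (k * o * c * (k * o)⁻¹) = c⁻¹ * (k * o) * c * (k * o)⁻¹ by group]
      exact mul_mem ((Subgroup.mem_normalizer_iff''.1 (hSK (hBS hcB)) _).1 hko) (inv_mem hko)
    exact inv_mul_eq_one.1 (eq_of_mul_mem hBp hKp (mul_mem (inv_mem hcB) h2) h3)

/-- The least centric radical subgroup. -/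
theorem exists_least_centric_radical (hp2 : p ≠ 2) (hfree : AutFree p G) (S : Sylow p G) :
    ∃ Q : Subgroup G, CtrlNorm S Q ∧
      (∃ R : Sylow p ↥(Subgroup.centralizer (Q : Set G)),
        (R : Subgroup ↥(Subgroup.centralizer (Q : Set G))).map
          (Subgroup.centralizer (Q : Set G)).subtype = Q ⊓ Subgroup.centralizer (Q : Set G)) ∧
      IsRad p Q ∧
      ∀ R : Subgroup G, R ≤ (S : Subgroup G) →
        (∃ T : Sylow p ↥(Subgroup.centralizer (R : Set G)),
          (T : Subgroup ↥(Subgroup.centralizer (R : Set G))).map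
            (Subgroup.centralizer (R : Set G)).subtype = R ⊓ Subgroup.centralizer (R : Set G)) →
        IsRad p R → Q ≤ R := by
  haveI : Finite (Subgroup G) := Finite.of_injective (fun K => (K : Set G)) SetLike.coe_injective
  set W := Fusion.functorOf Cfsg.kInfLower (S : Subgroup G) with hW
  have hWc : (S : Subgroup G) ⊓ Subgroup.centralizer (W : Set G) ≤ W := by
    rintro x ⟨hxS, hxC⟩
    refine ⟨⟨x, hxS⟩, Conjugacy.centralizer_kInfLower_le S.isPGroup' fun y hy => ?_, rfl⟩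
    exact Subtype.ext (hxC _ ⟨y, hy, rfl⟩)
  obtain ⟨Q, ⟨hQc, hWQ⟩, hmax⟩ := (Set.toFinite {Q : Subgroup G | CtrlNorm S Q ∧ W ≤ Q}).exists_maximal
    ⟨W, ctrlNorm_of_isNormal S (isNormal_kInfLower hp2 hfree S), le_rfl⟩
  have hc : (S : Subgroup G) ⊓ Subgroup.centralizer (Q : Set G) ≤ Q :=
    ((inf_le_inf_left _ (Subgroup.centralizer_le hWQ)).trans hWc).trans hWQ
  refine ⟨Q, hQc, ?_, fun X hXN hXn hQX hk => ?_, fun R hRS hRc hRr => ?_⟩
  · set C := Subgroup.centralizer (Q : Set G) with hC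
    obtain ⟨T, hT⟩ := ((S.isPGroup'.to_le (inf_le_left : (S : Subgroup G) ⊓ C ≤ S)).comap_of_injective
      C.subtype C.subtype_injective).exists_le_sylow
    refine ⟨T, ?_⟩
    have hle : (T : Subgroup C).map C.subtype ≤ Q := by
      obtain ⟨y, hy, hyS⟩ := Conjugacy.exists_cj_le S hQc.2.1
        ((Subgroup.map_subtype_le (T : Subgroup C)).trans (Subgroup.centralizer_le_normalizer _))
        (T.2.map C.subtype)
      intro t ht
      exact (Subgroup.mem_normalizer_iff.1 hy t).2 (hc ⟨hyS ⟨t, ht, rfl⟩,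
        (Subgroup.mem_normalizer_iff.1 (Coprime.le_normalizer_centralizer le_rfl hy) t).1
          (Subgroup.map_subtype_le _ ht)⟩)
    exact le_antisymm (le_inf hle (Subgroup.map_subtype_le _))
      fun x hx => ⟨⟨x, hx.2⟩, hT (show _ ∈ (S : Subgroup G) ⊓ C from ⟨hQc.1 hx.1, hx.2⟩), rfl⟩
  · obtain ⟨h1, h2⟩ := ctrlNorm_inf S hQc hc hXN hXn hQX hk
    have hle : Q ≤ (S : Subgroup G) ⊓ X := le_inf hQc.1 (le_sup_left.trans hQX)
    have := hmax ⟨h1, hWQ.trans hle⟩ hle
    rw [h2]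
    exact sup_eq_right.2 (this.trans le_sup_left)
  · set C := Subgroup.centralizer (R : Set G) with hC
    obtain ⟨T, hT⟩ := hRc
    set M := Subgroup.normalizer (R : Set G) with hM
    set D := Q ⊓ M with hD
    set X := D ⊔ (R ⊔ C) with hX
    have hXM : X ≤ M :=
      sup_le inf_le_right (sup_le Subgroup.le_normalizer (Subgroup.centralizer_le_normalizer _))
    have hinv : ∀ n ∈ M, X.map (MulAut.conj n).toMonoidHom = X := by
      intro n hn
      obtain ⟨h, hh, hag⟩ := hQc.2.2 R hRS n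
        ((Conjugacy.cj_eq_of_mem_normalizer hn).le.trans hRS)
      have hhR : h ∈ M := Subgroup.mem_normalizer_fintype fun x hx => by
        rw [← hag x hx]; exact (Subgroup.mem_normalizer_iff.1 hn x).1 hx
      have hcc : h⁻¹ * n ∈ C := fun x hx => by
        rw [show x * (h⁻¹ * n) = h⁻¹ * (h * x * h⁻¹) * n by group, ← hag x hx]
        group
      have hhX : h ∈ Subgroup.normalizer (X : Set G) := by
        rw [hX, Subgroup.mem_normalizer_iff_map_conj_eq, Subgroup.map_sup, Subgroup.map_sup,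
          Subgroup.mem_normalizer_iff_map_conj_eq.1 hhR,
          Subgroup.mem_normalizer_iff_map_conj_eq.1 (Coprime.le_normalizer_centralizer le_rfl hhR),
          Subgroup.mem_normalizer_iff_map_conj_eq.1 (Coprime.le_normalizer_inf_of_le
            (A := Subgroup.normalizer (Q : Set G) ⊓ M) inf_le_left
            (inf_le_right.trans Subgroup.le_normalizer) ⟨hh, hhR⟩)]
      refine Subgroup.mem_normalizer_iff_map_conj_eq.1 ?_
      rw [show n = h * (h⁻¹ * n) by group]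
      exact mul_mem hhX (Subgroup.le_normalizer (Subgroup.mem_sup_right (Subgroup.mem_sup_right hcc)))
    have hDp : IsPGroup p D := S.isPGroup'.to_le (inf_le_left.trans hQc.1)
    have hpow : ∃ k : ℕ, (R ⊔ C).relIndex X = p ^ k := by
      have hn : D ≤ Subgroup.normalizer ((R ⊔ C : Subgroup G) : Set G) := fun d hd => by
        rw [Subgroup.mem_normalizer_iff_map_conj_eq, Subgroup.map_sup,
          Subgroup.mem_normalizer_iff_map_conj_eq.1 hd.2,
          Subgroup.mem_normalizer_iff_map_conj_eq.1 (Coprime.le_normalizer_centralizer le_rfl hd.2)]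
      haveI := Subgroup.normal_subgroupOf_of_le_normalizer
        (sup_le hn Subgroup.le_normalizer : X ≤ Subgroup.normalizer ((R ⊔ C : Subgroup G) : Set G))
      let f : D →* ↥X ⧸ (R ⊔ C).subgroupOf X :=
        (QuotientGroup.mk' _).comp (Subgroup.inclusion le_sup_left)
      have hf : Function.Surjective f := fun y => by
        obtain ⟨x, rfl⟩ := QuotientGroup.mk'_surjective _ y
        have h1 : (x : G) ∈ D ⊔ (R ⊔ C) := x.2
        rw [← SetLike.mem_coe, Subgroup.coe_mul_of_left_le_normalizer_right _ _ hn] at h1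
        obtain ⟨d, hd, r, hr, hdr⟩ := Set.mem_mul.1 h1
        refine ⟨⟨d, hd⟩, (QuotientGroup.eq (s := (R ⊔ C).subgroupOf X)).2 ?_⟩
        rw [Subgroup.mem_subgroupOf]
        show d⁻¹ * (x : G) ∈ R ⊔ C
        rw [← hdr, inv_mul_cancel_left]
        exact hr
      exact (hDp.of_surjective f hf).exists_card_eq
    have hXeq := hRr X hXM hinv le_sup_right hpow
    have hDRC : D ≤ R ⊔ C := le_sup_left.trans hXeq.le
    have hDR : D ≤ R := by
      intro d hd
      have h1 := hDRC hd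
      rw [← SetLike.mem_coe, Subgroup.coe_mul_of_left_le_normalizer_right R C
        (Subgroup.le_normalizer.trans (Coprime.le_normalizer_centralizer le_rfl))] at h1
      obtain ⟨r, hr, c, hcC, hrc⟩ := Set.mem_mul.1 h1
      have hcS : c ∈ (S : Subgroup G) := by
        rw [show c = r⁻¹ * d by rw [← hrc]; group]
        exact mul_mem (inv_mem (hRS hr)) (hQc.1 hd.1)
      have hcR : c ∈ R := by
        have hTle : (T : Subgroup C) ≤ (S : Subgroup G).subgroupOf C := fun t ht =>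
          hRS ((hT.le ⟨t, ht, rfl⟩).1)
        have heq := T.3 (S.isPGroup'.comap_of_injective C.subtype C.subtype_injective) hTle
        have h2 : (⟨c, hcC⟩ : C) ∈ (T : Subgroup C) := heq.le hcS
        exact (hT.le ⟨⟨c, hcC⟩, h2, rfl⟩).1
      exact hrc ▸ mul_mem hr hcR
    by_contra hQR
    have hUS : R ⊔ Q ≤ (S : Subgroup G) := sup_le hRS hQc.1
    have hlt : R < R ⊔ Q := lt_of_le_of_ne le_sup_left fun e => hQR (e ▸ le_sup_right)
    obtain ⟨z, hz, hzR⟩ := SetLike.exists_of_lt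
      (Transfer.lt_inf_normalizer (S.isPGroup'.to_le hUS) hlt)
    have hz1 : z ∈ R ⊔ Q := hz.1
    rw [← SetLike.mem_coe, Subgroup.coe_mul_of_left_le_normalizer_right R Q
      (hRS.trans hQc.2.1)] at hz1
    obtain ⟨r, hr, q, hq, hrq⟩ := Set.mem_mul.1 hz1
    refine hzR (hrq ▸ mul_mem hr (hDR ⟨hq, ?_⟩))
    rw [show q = r⁻¹ * z by rw [← hrq]; group]
    exact M.mul_mem (M.inv_mem (Subgroup.le_normalizer (show r ∈ R from hr))) hz.2

end CfsgLib.Qd
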