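import Mathlib
import Cfsg.Agent.Lib.Qd.SL2Free
import Cfsg.Agent.Lib.ZJ.StableControl
import Cfsg.Agent.Lib.Fusion.ZJControl

/-!
`SL(2, p)`-free normalizers above `Z(S)`: `Z(J(S))` is normal in the fusion system.
-/

set_option autoImplicit false
set_option linter.style.haveILetI false

namespace CfsgLib.Qd

open Cfsg Cfsg.FusionSystem
open scoped MatrixGroups

universe u

variable {p : ℕ} [hp : Fact p.Prime] {G : Type u} [Group G] [Finite G]

/-- A section of `Aut_G(Q)` gives the forbidden configuration. -/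
theorem not_involves_autInducedBy_at {Q : Subgroup G}
    (hfree : ¬ ∃ (H K : Subgroup G) (_ : (K.subgroupOf H).Normal), H ≤ Subgroup.normalizer (Q : Set G) ∧
      Nonempty ((↥H ⧸ K.subgroupOf H) ≃* Matrix.SpecialLinearGroup (Fin 2) (ZMod p))) :
    ¬ Cfsg.Involves SL(2, ZMod p) ↥(autInducedBy ⊤ Q) := by
  intro h
  obtain ⟨B, ψ, hψ⟩ := Offender.exists_hom_of_involves h
  set N := Subgroup.normalizer (Q : Set G) with hN
  have hmem : ∀ n : N, Q.normalizerMonoidHom n ∈ autInducedBy ⊤ Q := fun n => by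
    rw [Fusion.autInducedBy_eq_map]
    exact ⟨n, Subgroup.mem_subgroupOf.2 (Subgroup.mem_top _), rfl⟩
  let θ : N →* ↥(autInducedBy ⊤ Q) := Q.normalizerMonoidHom.codRestrict _ hmem
  have hθ : Function.Surjective θ := fun a => by
    obtain ⟨n, -, hn⟩ := (Fusion.autInducedBy_eq_map ⊤ Q ▸ a.2 :
      (a : MulAut Q) ∈ (((⊤ : Subgroup G).subgroupOf N).map Q.normalizerMonoidHom))
    exact ⟨n, Subtype.ext hn⟩
  set H₀ : Subgroup N := B.comap θ with hH₀
  let φ : H₀ →* SL(2, ZMod p) := ψ.comp (θ.subgroupComap B)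
  have hφ : Function.Surjective φ := hψ.comp (θ.subgroupComap_surjective_of_surjective B hθ)
  set H := H₀.map N.subtype with hH
  let e : H₀ ≃* H := H₀.equivMapOfInjective N.subtype N.subtype_injective
  let φ' : H →* SL(2, ZMod p) := φ.comp e.symm.toMonoidHom
  have hsub : (φ'.ker.map H.subtype).subgroupOf H = φ'.ker :=
    Subgroup.comap_map_eq_self_of_injective H.subtype_injective _
  haveI hn : ((φ'.ker.map H.subtype).subgroupOf H).Normal := by rw [hsub]; infer_instance
  refine hfree ⟨H, φ'.ker.map H.subtype, hn,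
    Subgroup.map_subtype_le _,
    ⟨(QuotientGroup.quotientMulEquivOfEq hsub).trans
      (QuotientGroup.quotientKerEquivOfSurjective φ' (hφ.comp e.symm.surjective))⟩⟩

/-- The fusion system is free of `SL(2, p)`. -/
theorem isSectionFree_sl2_centric (hp2 : p ≠ 2) (S : Sylow p G)
    (hfree : ∀ Q : Subgroup G, (S : Subgroup G) ⊓ Subgroup.centralizer ((S : Subgroup G) : Set G) ≤ Q →
      Q ≤ (S : Subgroup G) → ¬ ∃ (H K : Subgroup G) (_ : (K.subgroupOf H).Normal),
        H ≤ Subgroup.normalizer (Q : Set G) ∧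
        Nonempty ((↥H ⧸ K.subgroupOf H) ≃* Matrix.SpecialLinearGroup (Fin 2) (ZMod p))) :
    (groupFusionSystem (S : Subgroup G)).IsSectionFree p SL(2, ZMod p) := by
  intro Q hQn hQc N hN L _ ι hL hinv
  have h := Fusion.centricNormal_normalizerSystem S.isPGroup' (Fusion.isSaturated_group S) hQn hQc hN
  haveI := Fusion.finite_of_le (S := (S : Subgroup G))
    (P := normalizerIn (S : Subgroup G) Q) inf_le_left
  haveI : Finite L := hL.1
  obtain ⟨ρ, -, -, -, hker⟩ := h.exists_action hL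
  have hk : IsPGroup p ρ.ker := by
    refine (((h.hS.to_subgroup h.conjQ.ker).map ι)).to_le (fun g hg => ?_)
    exact hker g hg
  have h1 := involves_sl2_descend hp2 ρ hk hinv
  rw [Fusion.autGroup_normalizerSystem hQn.1 hN, Fusion.autGroup_groupFusionSystem S hQn.1] at h1
  exact not_involves_autInducedBy_at (hfree Q (fun z hz => hQc.2 Q (Fusion.isConj_refl hQn.1)
    ⟨hz.1, Subgroup.centralizer_le hQn.1 hz.2⟩) hQn.1) h1

/-- `Z(J(S))` is normal in the fusion system. -/
theorem isNormal_zj (hp2 : p ≠ 2) (S : Sylow p G)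
    (hfree : ∀ Q : Subgroup G, (S : Subgroup G) ⊓ Subgroup.centralizer ((S : Subgroup G) : Set G) ≤ Q →
      Q ≤ (S : Subgroup G) → ¬ ∃ (H K : Subgroup G) (_ : (K.subgroupOf H).Normal),
        H ≤ Subgroup.normalizer (Q : Set G) ∧
        Nonempty ((↥H ⧸ K.subgroupOf H) ≃* Matrix.SpecialLinearGroup (Fin 2) (ZMod p))) :
    (groupFusionSystem (S : Subgroup G)).IsNormal (Cfsg.centerThompsonAOf (S : Subgroup G)) := by
  rw [← Fusion.functorOf_zjFunctor]
  refine Fusion.isNormal_functorOf_of_sectionFree Fusion.zjFunctor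
    Fusion.zjFunctor_ne_bot Fusion.zjFunctor_map ?_ S.isPGroup' (Fusion.isSaturated_group S)
    (isSectionFree_sl2_centric hp2 S hfree)
  intro L _ _ T hc hL
  have hqd : ¬ Cfsg.Involves ↥(Cfsg.qd p) L := fun h => hL (involves_sl2_of_involves_qd h)
  show (Fusion.functorOf Fusion.zjFunctor (T : Subgroup L)).Normal
  rw [Fusion.functorOf_zjFunctor, ZJ.centerThompsonAOf_eq]
  exact ZJ.normal_of_constrained hp2 (Or.inl rfl) T hc (stableAt_of_qdFree hp2 hqd _) inf_le_left
    inf_le_right (ZJ.normalizer_thompsonJ_le_zJ 0 _)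

end CfsgLib.Qd
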