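import Mathlib
import Cfsg.Agent.Lib.Qd.Facts
import Cfsg.Agent.Lib.PSolvable.Omega
import Cfsg.Agent.Lib.Critical.Basic
import Cfsg.Agent.Lib.Conjugacy.KInfQd
import Cfsg.Prelude.Def_Transfer

/-!
The Sylow `p`-subgroup of `Qd(p)`: Heisenberg group, its normalizer, an automorphism moving the
translations.
-/

set_option autoImplicit false
set_option linter.style.haveILetI false

namespace CfsgLib.Qd

open scoped MatrixGroups commutatorElement

variable {p : ℕ} [hp : Fact p.Prime]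

attribute [local irreducible] el aff

/-- Coordinates on the upper subgroup. -/
def el3 (s a b : ZMod p) : ↥(Cfsg.qd p) := el (p := p) (SL2.up s) ![a, b]

theorem el3_mul (s a b t c d : ZMod p) :
    el3 s a b * el3 t c d = el3 (s + t) (a + c + s * d) (b + d) := by
  rw [el3, el3, el3, el_mul, SL2.up_add, up_mulVec]
  congr 1
  ext i : 1
  fin_cases i <;> simp [add_assoc]

theorem el3_zero : el3 (0 : ZMod p) 0 0 = 1 := by
  rw [el3, SL2.up_zero, ← el_one]
  congr 1
  ext i : 1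
  fin_cases i <;> simp

theorem el3_inj {s a b t c d : ZMod p} (h : el3 s a b = el3 t c d) : s = t ∧ a = c ∧ b = d := by
  obtain ⟨h1, h2⟩ := el_inj (p := p) h
  refine ⟨?_, by simpa using congrFun h2 0, by simpa using congrFun h2 1⟩
  simpa [SL2.up_coe] using congrArg (fun M : SL(2, ZMod p) => M.1 0 1) h1

theorem mem_upper_iff {x : ↥(Cfsg.qd p)} : x ∈ upper p ↔ ∃ s a b, el3 s a b = x := by
  rw [mem_upper]
  constructor
  · rintro ⟨s, v, rfl⟩
    exact ⟨s, v 0, v 1, by rw [el3]; congr 1; ext i : 1; fin_cases i <;> simp⟩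
  · rintro ⟨s, a, b, rfl⟩
    exact ⟨s, _, rfl⟩

theorem el3_pow (s a b : ZMod p) (n : ℕ) :
    el3 s a b ^ n = el3 (n • s) (n • a + (n.choose 2) • (s * b)) (n • b) := by
  induction n with
  | zero => simp [el3_zero]
  | succ n ih =>
    rw [pow_succ, ih, el3_mul, Nat.choose_succ_succ n 1, Nat.choose_one_right,
      show Nat.succ 1 = 2 from rfl]
    simp only [succ_nsmul, nsmul_eq_mul]
    congr 1
    push_cast
    ring

theorem pow_eq_one (hp2 : p ≠ 2) {x : ↥(Cfsg.qd p)} (hx : x ∈ upper p) : x ^ p = 1 := by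
  obtain ⟨s, a, b, rfl⟩ := mem_upper_iff.mp hx
  rw [el3_pow, ← el3_zero]
  have hc : ((p.choose 2 : ℕ) : ZMod p) = 0 := by
    rw [ZMod.natCast_eq_zero_iff]
    exact hp.out.dvd_choose_self two_ne_zero (by have := hp.out.two_le; omega)
  simp [nsmul_eq_mul, hc]

theorem exists_sylow_upper : ∃ T : Sylow p ↥(Cfsg.qd p), (T : Subgroup ↥(Cfsg.qd p)) = upper p := by
  have hTp : IsPGroup p (upper p) := IsPGroup.of_card card_upper
  obtain ⟨T, hT⟩ := hTp.exists_le_sylow
  refine ⟨T, (Subgroup.eq_of_le_of_card_ge hT ?_).symm⟩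
  have hf : (Nat.card SL(2, ZMod p)).factorization p = 1 := by
    rw [SL2.card_SL_two', Nat.card_zmod]
    have h2 : ¬ p ∣ (p - 1) * (p + 1) := by
      intro h
      rcases hp.out.dvd_mul.mp h with h | h
      · have h3 := Nat.le_of_dvd (by have := hp.out.two_le; omega) h
        have := hp.out.two_le
        omega
      · exact hp.out.one_lt.ne' (Nat.dvd_one.mp ((Nat.dvd_add_right dvd_rfl).mp h))
    rw [Nat.factorization_mul hp.out.ne_zero (fun h => h2 (by rw [h]; exact dvd_zero p)),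
      Finsupp.add_apply, Nat.Prime.factorization_self hp.out,
      Nat.factorization_eq_zero_of_not_dvd h2]
  rw [T.card_eq_multiplicity, card_upper, card_qd, Nat.factorization_mul
    (pow_ne_zero _ hp.out.ne_zero) Nat.card_pos.ne', Finsupp.add_apply,
    Nat.Prime.factorization_pow hp.out, Finsupp.single_eq_same, hf]

theorem exists_equiv_upper (P : Sylow p ↥(Cfsg.qd p)) :
    ∃ g : ↥(Cfsg.qd p), (upper p).map (MulAut.conj g).toMonoidHom = (P : Subgroup ↥(Cfsg.qd p)) := by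
  obtain ⟨T, hT⟩ := exists_sylow_upper (p := p)
  obtain ⟨g, hg⟩ := MulAction.exists_smul_eq ↥(Cfsg.qd p) T P
  exact ⟨g, by rw [← hT, ← hg]; rfl⟩

theorem center_upper {x : upper p} :
    x ∈ Subgroup.center (upper p) ↔ ∃ a, el3 0 a 0 = (x : ↥(Cfsg.qd p)) := by
  obtain ⟨s, a, b, h⟩ := mem_upper_iff.mp x.2
  constructor
  · intro hx
    have h1 := congrArg Subtype.val (Subgroup.mem_center_iff.mp hx
      ⟨el3 1 0 0, mem_upper_iff.mpr ⟨_, _, _, rfl⟩⟩)
    have h2 := congrArg Subtype.val (Subgroup.mem_center_iff.mp hx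
      ⟨el3 0 0 1, mem_upper_iff.mpr ⟨_, _, _, rfl⟩⟩)
    simp only [Subgroup.coe_mul, ← h, el3_mul] at h1 h2
    obtain ⟨-, h1', -⟩ := el3_inj h1
    obtain ⟨-, h2', -⟩ := el3_inj h2
    simp at h1' h2'
    exact ⟨a, by rw [← h, h1', h2']⟩
  · rintro ⟨c, hc⟩
    refine Subgroup.mem_center_iff.mpr fun y => Subtype.ext ?_
    obtain ⟨t, e, f, hy⟩ := mem_upper_iff.mp y.2
    rw [Subgroup.coe_mul, Subgroup.coe_mul, ← hc, ← hy, el3_mul, el3_mul]
    congr 1 <;> ring

theorem card_center_upper : Nat.card (Subgroup.center (upper p)) = p := by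
  let e : ZMod p ≃ Subgroup.center (upper p) := Equiv.ofBijective
    (fun a => ⟨⟨el3 0 a 0, mem_upper_iff.mpr ⟨_, _, _, rfl⟩⟩, center_upper.mpr ⟨a, rfl⟩⟩)
    ⟨fun a b h => (el3_inj (congrArg (fun z : Subgroup.center (upper p) => ((z : upper p) : ↥(Cfsg.qd p))) h)).2.1,
      fun ⟨x, hx⟩ => by
        obtain ⟨a, ha⟩ := center_upper.mp hx
        exact ⟨a, Subtype.ext (Subtype.ext ha)⟩⟩
  rw [← Nat.card_congr e, Nat.card_zmod]

theorem commutator_upper : commutator (upper p) = Subgroup.center (upper p) := by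
  have hle : commutator (upper p) ≤ Subgroup.center (upper p) := by
    rw [commutator_def, Subgroup.commutator_le]
    intro x _ y _
    obtain ⟨s, a, b, hx⟩ := mem_upper_iff.mp x.2
    obtain ⟨t, c, d, hy⟩ := mem_upper_iff.mp y.2
    refine center_upper.mpr ⟨s * d - t * b, ?_⟩
    rw [commutatorElement_def]
    simp only [Subgroup.coe_mul, Subgroup.coe_inv]
    rw [← hx, ← hy, eq_mul_inv_iff_mul_eq, eq_mul_inv_iff_mul_eq]
    simp only [el3_mul]
    congr 1 <;> ring
  refine Subgroup.eq_of_le_of_card_ge hle ?_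
  rw [card_center_upper]
  have hmem : (⁅(⟨el3 1 0 0, mem_upper_iff.mpr ⟨_, _, _, rfl⟩⟩ : upper p),
      ⟨el3 0 0 1, mem_upper_iff.mpr ⟨_, _, _, rfl⟩⟩⁆) ∈ commutator (upper p) :=
    Subgroup.commutator_mem_commutator (Subgroup.mem_top _) (Subgroup.mem_top _)
  have hne : commutator (upper p) ≠ ⊥ := fun hb => by
    rw [hb, Subgroup.mem_bot, commutatorElement_eq_one_iff_mul_comm] at hmem
    have h1 := congrArg Subtype.val hmem
    simp only [Subgroup.coe_mul, el3_mul] at h1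
    simpa using (el3_inj h1).2.1
  obtain ⟨k, hk⟩ := (IsPGroup.of_card card_upper : IsPGroup p (upper p)).to_subgroup
    (commutator (upper p)) |>.exists_card_eq
  rw [hk]
  refine Nat.le_self_pow (fun hk0 => hne (Subgroup.eq_bot_of_card_eq _ ?_)) p
  rw [hk, hk0, pow_zero]

theorem isExtraspecial_upper (hp2 : p ≠ 2) : Cfsg.IsExtraspecial p (upper p) := by
  have hP : IsPGroup p (upper p) := IsPGroup.of_card card_upper
  refine ⟨⟨hP, le_antisymm ?_ ?_, commutator_upper⟩, card_center_upper⟩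
  · refine Critical.frattini_le_of_elementary (p := p) _ ?_ fun x => ?_
    · rw [commutator_upper]
    · rw [show x ^ p = 1 from Subtype.ext (pow_eq_one hp2 x.2)]
      exact one_mem _
  · rw [← commutator_upper]
    exact (PSolvable.commutator_le_frattini hP).1

theorem exponent_upper (hp2 : p ≠ 2) : Monoid.exponent (upper p) = p := by
  refine ((Nat.dvd_prime hp.out).mp (Monoid.exponent_dvd_of_forall_pow_eq_one fun x =>
    Subtype.ext (pow_eq_one hp2 x.2))).resolve_left fun h1 => ?_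
  have h2 := congrArg Subtype.val (pow_one (⟨el3 1 0 0, mem_upper_iff.mpr ⟨_, _, _, rfl⟩⟩ : upper p) ▸
    h1 ▸ Monoid.pow_exponent_eq_one (⟨el3 1 0 0, mem_upper_iff.mpr ⟨_, _, _, rfl⟩⟩ : upper p))
  exact one_ne_zero (el3_inj ((h2 : el3 (1 : ZMod p) 0 0 = 1).trans el3_zero.symm)).1

/-- The automorphism exchanging the two elementary abelian subgroups of order `p ^ 2`. -/
theorem exists_swap : ∃ φ : MulAut (upper p), ∀ s a b,
    ((φ ⟨el3 s a b, mem_upper_iff.mpr ⟨_, _, _, rfl⟩⟩ : upper p) : ↥(Cfsg.qd p)) =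
      el3 b (s * b - a) s := by
  have hdec : ∀ x : upper p, ∃ s a b, el3 s a b = (x : ↥(Cfsg.qd p)) := fun x => mem_upper_iff.mp x.2
  choose cs ca cb hc using hdec
  let f : upper p → upper p := fun x =>
    ⟨el3 (cb x) (cs x * cb x - ca x) (cs x), mem_upper_iff.mpr ⟨_, _, _, rfl⟩⟩
  have hf : ∀ s a b (h : el3 s a b ∈ upper p),
      (f ⟨_, h⟩ : ↥(Cfsg.qd p)) = el3 b (s * b - a) s := fun s a b h => by
    obtain ⟨h1, h2, h3⟩ := el3_inj (hc ⟨_, h⟩)
    show el3 _ _ _ = _
    rw [h1, h2, h3]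
  have hff : ∀ x, f (f x) = x := fun x => Subtype.ext (by
    have h1 := hf (cb x) (cs x * cb x - ca x) (cs x) (mem_upper_iff.mpr ⟨_, _, _, rfl⟩)
    refine h1.trans (Eq.trans ?_ (hc x))
    congr 1
    ring)
  refine ⟨{ toFun := f, invFun := f, left_inv := hff, right_inv := hff, map_mul' := fun x y => ?_ },
    fun s a b => hf s a b _⟩
  refine Subtype.ext ?_
  have hxy : (x * y : upper p) = ⟨el3 (cs x + cs y) (ca x + ca y + cs x * cb y) (cb x + cb y),
      mem_upper_iff.mpr ⟨_, _, _, rfl⟩⟩ := Subtype.ext (by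
    rw [Subgroup.coe_mul, ← hc x, ← hc y, el3_mul])
  rw [hxy, hf, Subgroup.coe_mul]
  show _ = el3 (cb x) _ _ * el3 (cb y) _ _
  rw [el3_mul]
  congr 1
  ring

theorem mem_normalizer_upper {x : ↥(Cfsg.qd p)} :
    x ∈ Subgroup.normalizer (upper p : Set ↥(Cfsg.qd p)) ↔ (pr x).1 1 0 = 0 := by
  have hmem : ∀ y : ↥(Cfsg.qd p), y ∈ upper p ↔ ∃ s, pr y = SL2.up s := fun y => by
    rw [upper, Subgroup.mem_comap]
    exact ⟨fun ⟨b, hb⟩ => ⟨b.toAdd, by rw [← hb, SL2.up, ofAdd_toAdd]⟩, fun ⟨s, hs⟩ => ⟨_, hs.symm⟩⟩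
  constructor
  · intro hx
    obtain ⟨s, hs⟩ := (hmem _).mp ((Subgroup.mem_normalizer_iff.mp hx _).mp
      ((hmem (el (p := p) (SL2.up 1) 0)).mpr ⟨1, pr_el _ _⟩))
    rw [map_mul, map_mul, map_inv, pr_el, mul_inv_eq_iff_eq_mul] at hs
    have h1 := congrArg (fun M : SL(2, ZMod p) => M.1 1 1) hs
    simp only [SL2.mul_entry, SL2.up_coe] at h1
    simpa using h1
  · intro hx
    have key : ∀ g : SL(2, ZMod p), g.1 1 0 = 0 → ∀ s, ∃ t, g * SL2.up s * g⁻¹ = SL2.up t := by
      intro g hg s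
      refine ⟨g.1 0 0 * g.1 0 0 * s, ?_⟩
      have hd := SL2.det_eq g
      rw [hg, mul_zero, sub_zero] at hd
      rw [mul_inv_eq_iff_eq_mul]
      apply SL2.ext2 <;> simp only [SL2.mul_entry, SL2.up_coe] <;> simp [hg]
      linear_combination (-(g.1 0 0) * s) * hd
    refine Subgroup.mem_normalizer_iff.mpr fun y => ⟨fun hy => ?_, fun hy => ?_⟩
    · obtain ⟨s, hs⟩ := (hmem y).mp hy
      obtain ⟨t, ht⟩ := key _ hx s
      exact (hmem _).mpr ⟨t, by rw [map_mul, map_mul, map_inv, hs, ht]⟩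
    · obtain ⟨s, hs⟩ := (hmem _).mp hy
      obtain ⟨i00, i01, i10, i11⟩ := SL2.inv_entries (F := ZMod p) (pr (p := p) x)
      obtain ⟨t, ht⟩ := key (pr x)⁻¹ (by rw [i10, hx, neg_zero]) s
      refine (hmem y).mpr ⟨t, ?_⟩
      rw [← ht, ← hs]
      simp only [map_mul, map_inv]
      group

/-- A subgroup containing the upper transvections and an element with non-zero lower entry. -/
theorem eq_top_of_up_of_entry {K : Subgroup SL(2, ZMod p)} (hu : ∀ s, SL2.up (F := ZMod p) s ∈ K)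
    {g : SL(2, ZMod p)} (hg : g ∈ K) (h10 : g.1 1 0 ≠ 0) : K = ⊤ := by
  set c := g.1 1 0 with hc
  set w := SL2.up (-(g.1 0 0) / c) * g * SL2.up (-(g.1 1 1) / c) with hw
  have hwK : w ∈ K := mul_mem (mul_mem (hu _) hg) (hu _)
  refine eq_top_of_up_lo (hu 1) ?_
  have hd := SL2.det_eq g
  have w00 : w.1 0 0 = 0 := by
    simp only [hw, SL2.mul_entry, SL2.up_coe]; simp
    field_simp; ring
  have w11 : w.1 1 1 = 0 := by
    simp only [hw, SL2.mul_entry, SL2.up_coe]; simp
    field_simp; ring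
  have w10 : w.1 1 0 = c := by
    simp only [hw, SL2.mul_entry, SL2.up_coe]; simp [hc]
  have hdw := SL2.det_eq w
  rw [w00, w11, w10] at hdw
  have : w * SL2.up (-(1 / (c * c))) * w⁻¹ = SL2.lo 1 := by
    rw [mul_inv_eq_iff_eq_mul]
    apply SL2.ext2 <;> simp only [SL2.mul_entry, SL2.up_coe, SL2.lo_coe] <;> simp [w00, w11, w10]
    field_simp
    linear_combination hdw
  exact this ▸ mul_mem (mul_mem hwK (hu _)) (inv_mem hwK)

/-- No non-trivial characteristic subgroup of the upper subgroup has a larger normalizer. -/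
theorem normalizer_eq_of_characteristic {T : Subgroup ↥(Cfsg.qd p)} (hT : T ≤ upper p)
    (hT1 : T ≠ ⊥) (hTc : (T.subgroupOf (upper p)).Characteristic)
    (hle : Subgroup.normalizer (upper p : Set ↥(Cfsg.qd p)) ≤ Subgroup.normalizer (T : Set ↥(Cfsg.qd p))) :
    Subgroup.normalizer (T : Set ↥(Cfsg.qd p)) = Subgroup.normalizer (upper p : Set ↥(Cfsg.qd p)) := by
  refine le_antisymm (fun x hx => mem_normalizer_upper.mpr (by_contra fun h10 => ?_)) hle
  set M := Subgroup.normalizer (T : Set ↥(Cfsg.qd p)) with hM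
  have hup : upper p ≤ M := Subgroup.le_normalizer.trans hle
  have hmap : M.map pr = ⊤ := eq_top_of_up_of_entry
    (fun s => ⟨el (p := p) (SL2.up s) 0, hup (mem_upper.mpr ⟨s, 0, rfl⟩), pr_el _ _⟩) ⟨x, hx, rfl⟩ h10
  have hVup : transl p ≤ upper p := fun x hx => by
    obtain ⟨v, rfl⟩ := mem_transl.mp hx
    exact mem_upper.mpr ⟨0, v, by rw [SL2.up_zero]⟩
  have hMtop : M = ⊤ := eq_top_iff.mpr fun y _ => by
    obtain ⟨z, hz, hzy⟩ : pr y ∈ M.map pr := hmap ▸ Subgroup.mem_top _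
    have h1 : z⁻¹ * y ∈ transl p := by
      rw [transl, MonoidHom.mem_ker, map_mul, map_inv, hzy, inv_mul_cancel]
    simpa using mul_mem hz (hup (hVup h1))
  haveI hTn : T.Normal := Subgroup.normalizer_eq_top_iff.mp hMtop
  -- so `T` is the group of translations
  have hTV : T ≤ transl p := by
    have hs : Function.Surjective (pr (p := p)) := fun g => ⟨el g 0, pr_el g 0⟩
    haveI : (T.map pr).Normal := hTn.map _ hs
    intro t ht
    obtain ⟨s, v, rfl⟩ := mem_upper.mp (hT ht)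
    by_contra hts
    have hs0 : s ≠ 0 := fun h => hts (mem_transl.mpr ⟨v, by rw [h, SL2.up_zero]⟩)
    obtain ⟨m, hm⟩ := ZMod.natCast_zmod_surjective (s⁻¹)
    have hpow : ∀ m : ℕ, SL2.up ((m : ZMod p) * s) = SL2.up s ^ m := by
      intro m
      induction m with
      | zero => simp [SL2.up_zero]
      | succ m ih => rw [pow_succ, ← ih, ← SL2.up_add, Nat.cast_succ, add_one_mul]
    have h1 : SL2.up (1 : ZMod p) ∈ T.map pr := by
      rw [show (1 : ZMod p) = (m : ZMod p) * s by rw [hm, inv_mul_cancel₀ hs0], hpow]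
      exact pow_mem (show SL2.up s ∈ T.map pr from ⟨_, ht, pr_el _ _⟩) m
    have htop := eq_top_of_normal h1
    have h2 : Nat.card SL(2, ZMod p) ∣ p ^ 3 := by
      rw [← card_upper (p := p), ← Subgroup.card_top (G := SL(2, ZMod p)), ← htop]
      exact (Subgroup.card_map_dvd T pr).trans (Subgroup.card_dvd_of_le hT)
    rw [SL2.card_SL_two', Nat.card_zmod] at h2
    obtain ⟨k, -, hk⟩ := (Nat.dvd_prime_pow hp.out).mp (dvd_trans (dvd_mul_left _ p) h2)
    rcases Nat.eq_zero_or_pos k with rfl | hk0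
    · simp only [pow_zero, mul_eq_one] at hk
      omega
    · rcases hp.out.dvd_mul.mp (hk ▸ dvd_pow_self p hk0.ne') with h | h
      · have h3 := Nat.le_of_dvd (by have := hp.out.two_le; omega) h
        have := hp.out.two_le
        omega
      · exact hp.out.one_lt.ne' (Nat.dvd_one.mp ((Nat.dvd_add_right dvd_rfl).mp h))
  have hVT : transl p ≤ T := by
    obtain ⟨⟨t, ht⟩, ht'⟩ := (Subgroup.ne_bot_iff_exists_ne_one).mp hT1
    have ht1 : t ≠ 1 := fun e => ht' (Subtype.ext e)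
    obtain ⟨v, rfl⟩ := mem_transl.mp (hTV ht)
    have hv : v ≠ 0 := fun h => ht1 (by rw [h, el_one])
    intro x hx
    obtain ⟨w, rfl⟩ := mem_transl.mp hx
    by_cases hw : w = 0
    · rw [hw, el_one]; exact one_mem _
    obtain ⟨g, hg⟩ := Conjugacy.exists_mulVec_eq hv hw
    have := hTn.conj_mem _ ht (el g 0)
    rwa [conj_el_one, hg] at this
  have hTeq : T = transl p := le_antisymm hTV hVT
  obtain ⟨φ, hφ⟩ := exists_swap (p := p)
  set y : upper p := ⟨el3 0 0 1, mem_upper_iff.mpr ⟨_, _, _, rfl⟩⟩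
  have hy : y ∈ T.subgroupOf (upper p) := by
    rw [Subgroup.mem_subgroupOf, hTeq, mem_transl]
    exact ⟨![0, 1], by rw [show ((y : upper p) : ↥(Cfsg.qd p)) = el3 0 0 1 from rfl, el3, SL2.up_zero]⟩
  have h3 : φ y ∈ T.subgroupOf (upper p) :=
    (Subgroup.characteristic_iff_map_eq.mp hTc φ).le ⟨y, hy, rfl⟩
  rw [Subgroup.mem_subgroupOf, hφ, hTeq, mem_transl] at h3
  obtain ⟨v, hv⟩ := h3
  rw [el3] at hv
  have := congrArg (fun M : SL(2, ZMod p) => M.1 0 1) (el_inj hv).1
  simp [SL2.up_coe] at this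

end CfsgLib.Qd
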